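import Cfsg.Agent.H497.EB.D8
import Cfsg.Agent.H798.PSLDih
import Cfsg.Agent.GH.Cov.SylowThree

/-!
# Rows of S4522 / S4515: `PSL₂(q)`, `PSL₃(q)`, `q = 3 mod 4`, `PSU₃(q)`, `q = 1 mod 4`, `M₁₁`
-/

set_option autoImplicit false
set_option linter.style.haveILetI false

namespace Cfsg.Agent.H497.EB

open Cfsg Subgroup Cfsg.Agent.H684.EB Matrix

universe u v

/-! ### Two by two matrices -/

theorem cross {F : Type*} [Field F] {b c e x y z p q r : F} (h : b ≠ 0 ∨ c ≠ 0 ∨ e ≠ 0)
    (h1 : b * y = x * c) (h2 : x * e = b * z) (h3 : c * z = y * e)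
    (g1 : b * q = p * c) (g2 : p * e = b * r) (g3 : c * r = q * e) :
    p * y = x * q ∧ x * r = p * z ∧ q * z = y * r := by
  rcases h with h | h | h
  · refine ⟨?_, ?_, ?_⟩ <;> apply mul_left_cancel₀ h
    · linear_combination p * h1 - x * g1
    · linear_combination p * h2 - x * g2
    · linear_combination -q * h2 - r * h1 - x * g3
  · have k1 : p * y = x * q := by
      apply mul_left_cancel₀ h
      linear_combination q * h1 - y * g1
    refine ⟨k1, ?_, ?_⟩ <;> apply mul_left_cancel₀ h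
    · linear_combination -p * h3 + x * g3 - e * k1
    · linear_combination q * h3 - y * g3
  · have k3 : q * z = y * r := by
      apply mul_left_cancel₀ h
      linear_combination r * h3 - z * g3
    refine ⟨?_, ?_, k3⟩ <;> apply mul_left_cancel₀ h
    · linear_combination y * g2 - q * h2 - b * k3
    · linear_combination r * h2 - z * g2

/-- The centralizer of a nonscalar matrix is commutative. -/
theorem comm_of_comm {F : Type*} [Field F] {A B X : Matrix.SpecialLinearGroup (Fin 2) F}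
    (hA : A ∉ Subgroup.center (Matrix.SpecialLinearGroup (Fin 2) F)) (hB : A * B = B * A)
    (hX : A * X = X * A) : B * X = X * B := by
  have e1 : ∀ Y : Matrix.SpecialLinearGroup (Fin 2) F, A * Y = Y * A →
      A.1 0 1 * Y.1 1 0 = Y.1 0 1 * A.1 1 0 ∧ Y.1 0 1 * (A.1 0 0 - A.1 1 1) = A.1 0 1 * (Y.1 0 0 - Y.1 1 1) ∧
      A.1 1 0 * (Y.1 0 0 - Y.1 1 1) = Y.1 1 0 * (A.1 0 0 - A.1 1 1) := by
    intro Y hY
    have h1 : A.1 * Y.1 = Y.1 * A.1 := congrArg Subtype.val hY
    have h00 := congrFun (congrFun h1 0) 0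
    have h01 := congrFun (congrFun h1 0) 1
    have h10 := congrFun (congrFun h1 1) 0
    rw [Matrix.mul_apply, Matrix.mul_apply, Fin.sum_univ_two, Fin.sum_univ_two] at h00 h01 h10
    refine ⟨?_, ?_, ?_⟩
    · linear_combination h00
    · linear_combination h01
    · linear_combination h10
  have hne : A.1 0 1 ≠ 0 ∨ A.1 1 0 ≠ 0 ∨ A.1 0 0 - A.1 1 1 ≠ 0 := by
    by_contra hcon
    push Not at hcon
    obtain ⟨h1, h2, h3⟩ := hcon
    apply hA
    rw [Matrix.SpecialLinearGroup.mem_center_iff]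
    have hdet := A.2
    rw [Matrix.det_fin_two, h1, h2] at hdet
    refine ⟨A.1 0 0, ?_, ?_⟩
    · rw [Fintype.card_fin]
      linear_combination hdet + A.1 0 0 * h3
    · ext i j
      fin_cases i <;> fin_cases j
      · simp
      · simp [h1]
      · simp [h2]
      · simp
        linear_combination h3
  obtain ⟨h1, h2, h3⟩ := e1 B hB
  obtain ⟨g1, g2, g3⟩ := e1 X hX
  obtain ⟨k1, k2, k3⟩ := cross hne h1 h2 h3 g1 g2 g3
  apply Subtype.ext
  show B.1 * X.1 = X.1 * B.1
  ext i j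
  fin_cases i <;> fin_cases j <;> simp only [Matrix.mul_apply, Fin.sum_univ_two]
  · simp
    linear_combination -k1
  · simp
    linear_combination -k2
  · simp
    linear_combination -k3
  · simp
    linear_combination k1

/-- The centralizer condition in `PSL₂(F)`. -/
theorem psl_cent {F : Type*} [Field F] (σ y : Matrix.ProjectiveSpecialLinearGroup (Fin 2) F)
    (h2 : σ ^ 2 ≠ 1) (hy : y * σ ^ 2 = σ ^ 2 * y) (hyσ : y * σ ≠ σ * y)
    (x : Matrix.ProjectiveSpecialLinearGroup (Fin 2) F) (hx : x * σ ^ 2 = σ ^ 2 * x) :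
    x * σ = σ * x ∨ y⁻¹ * x * σ = σ * (y⁻¹ * x) := by
  obtain ⟨B, rfl⟩ := QuotientGroup.mk_surjective σ
  obtain ⟨Y, rfl⟩ := QuotientGroup.mk_surjective y
  obtain ⟨X, rfl⟩ := QuotientGroup.mk_surjective x
  set C := Subgroup.center (Matrix.SpecialLinearGroup (Fin 2) F) with hC
  have hA : B ^ 2 ∉ C := by
    intro h
    apply h2
    rw [← QuotientGroup.mk_pow]
    exact (QuotientGroup.eq_one_iff _).2 h
  have hBA : B ^ 2 * B = B * B ^ 2 := by group
  -- central commutators
  have key : ∀ Z : Matrix.SpecialLinearGroup (Fin 2) F,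
      (QuotientGroup.mk Z : Matrix.ProjectiveSpecialLinearGroup (Fin 2) F) * (QuotientGroup.mk B) ^ 2 =
        (QuotientGroup.mk B) ^ 2 * QuotientGroup.mk Z →
      ∃ c ∈ C, ∃ r : F, (r = 1 ∨ r = -1) ∧ Matrix.scalar (Fin 2) r = c.1 ∧ Z * B ^ 2 = B ^ 2 * Z * c := by
    intro Z hZ
    have h1 : (QuotientGroup.mk (B ^ 2 * Z) : Matrix.ProjectiveSpecialLinearGroup (Fin 2) F) =
        QuotientGroup.mk (Z * B ^ 2) := by
      rw [QuotientGroup.mk_mul, QuotientGroup.mk_mul, QuotientGroup.mk_pow]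
      exact hZ.symm
    have h3 := QuotientGroup.eq.1 h1
    obtain ⟨r, hr, hrc⟩ := Matrix.SpecialLinearGroup.mem_center_iff.1 h3
    refine ⟨_, h3, r, ?_, hrc, by group⟩
    rw [Fintype.card_fin] at hr
    have h4 : (r - 1) * (r + 1) = 0 := by linear_combination hr
    rcases mul_eq_zero.1 h4 with h5 | h5
    · left
      linear_combination h5
    · right
      linear_combination h5
  have hcomm : ∀ Z : Matrix.SpecialLinearGroup (Fin 2) F, Z * B ^ 2 = B ^ 2 * Z →
      (QuotientGroup.mk Z : Matrix.ProjectiveSpecialLinearGroup (Fin 2) F) * QuotientGroup.mk B =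
        QuotientGroup.mk B * QuotientGroup.mk Z := by
    intro Z hZ
    rw [← QuotientGroup.mk_mul, ← QuotientGroup.mk_mul, comm_of_comm hA hBA hZ.symm]
  obtain ⟨c, hc, r, hr, hrc, hcX⟩ := key X hx
  obtain ⟨d, hd, t, ht, htd, hdY⟩ := key Y hy
  have hone : ∀ (c : Matrix.SpecialLinearGroup (Fin 2) F), Matrix.scalar (Fin 2) (1 : F) = c.1 → c = 1 := by
    intro c hc
    apply Subtype.ext
    rw [← hc, map_one]
    rfl
  have ht1 : t = -1 := by
    rcases ht with rfl | h
    · exfalso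
      apply hyσ
      apply hcomm
      rw [hdY, hone d htd, mul_one]
    · exact h
  rcases hr with rfl | hr
  · left
    apply hcomm
    rw [hcX, hone c hrc, mul_one]
  · right
    have hcd : c = d := Subtype.ext (by rw [← hrc, ← htd, hr, ht1])
    have h1 : Y⁻¹ * X * B ^ 2 = B ^ 2 * (Y⁻¹ * X) := by
      have h3 : d * Y⁻¹ = Y⁻¹ * d := (Subgroup.mem_center_iff.1 hd Y⁻¹).symm
      have h4 : B ^ 2 = Y⁻¹ * (B ^ 2 * Y * d) := by rw [← hdY]; group
      have h5 : B ^ 2 * Y⁻¹ = Y⁻¹ * B ^ 2 * d := by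
        have h6 : ∀ Z, Z * d = d * Z := fun Z => Subgroup.mem_center_iff.1 hd Z
        calc B ^ 2 * Y⁻¹ = Y⁻¹ * (B ^ 2 * Y * d) * Y⁻¹ := by rw [← h4]
          _ = Y⁻¹ * (B ^ 2 * Y * (d * Y⁻¹)) := by group
          _ = Y⁻¹ * (B ^ 2 * Y * (Y⁻¹ * d)) := by rw [h3]
          _ = Y⁻¹ * B ^ 2 * d := by group
      calc Y⁻¹ * X * B ^ 2 = Y⁻¹ * (X * B ^ 2) := by group
        _ = Y⁻¹ * (B ^ 2 * X * d) := by rw [hcX, hcd]
        _ = Y⁻¹ * B ^ 2 * (X * d) := by group
        _ = Y⁻¹ * B ^ 2 * (d * X) := by rw [Subgroup.mem_center_iff.1 hd X]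
        _ = (Y⁻¹ * B ^ 2 * d) * X := by group
        _ = B ^ 2 * (Y⁻¹ * X) := by rw [← h5]; group
    have h2 := hcomm _ h1
    rw [QuotientGroup.mk_mul, QuotientGroup.mk_inv] at h2
    exact h2

/-! ### Transfer along isomorphisms -/

/-- Sylow subgroups of isomorphic groups. -/
theorem exists_sylow_equiv {A : Type u} {B : Type v} [Group A] [Group B] [Finite A] [Finite B] (e : A ≃* B)
    (P : Sylow 2 A) : ∃ Q : Sylow 2 B, Nonempty ((P : Subgroup A) ≃* (Q : Subgroup B)) := by
  haveI : Fact (Nat.Prime 2) := ⟨Nat.prime_two⟩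
  have h1 : IsPGroup 2 ((P : Subgroup A).map e.toMonoidHom) := P.isPGroup'.map _
  obtain ⟨Q, hQ⟩ := h1.exists_le_sylow
  have h2 : (P : Subgroup A).map e.toMonoidHom = (Q : Subgroup B) := by
    apply Subgroup.eq_of_le_of_card_ge hQ
    rw [Subgroup.card_map_of_injective e.injective, Sylow.card_eq_multiplicity, Sylow.card_eq_multiplicity,
      Nat.card_congr e.toEquiv]
  exact ⟨Q, ⟨(P.1.equivMapOfInjective e.toMonoidHom e.injective).trans (MulEquiv.subgroupCongr h2)⟩⟩

/-- **`PSL₂(q)`, `16 ∣ q² - 1`.** -/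
theorem evenJ_psl2 {F : Type v} [Field F] [Fintype F] (hodd : Fintype.card F % 2 = 1)
    (h16 : 16 ∣ Fintype.card F ^ 2 - 1) {S : Type u} [Group S] [Fintype S]
    (e : S ≃* Matrix.ProjectiveSpecialLinearGroup (Fin 2) F) : EvenJ S := by
  classical
  haveI hfin : Finite (Matrix.ProjectiveSpecialLinearGroup (Fin 2) F) := Finite.of_equiv S e.toEquiv
  obtain ⟨P⟩ : Nonempty (Sylow 2 S) := inferInstance
  obtain ⟨Q, ⟨f⟩⟩ := exists_sylow_equiv e P
  obtain ⟨k, hk, ⟨g⟩⟩ := Cfsg.Agent.H798.psl_two_dihedral hodd h16 Q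
  rcases Nat.lt_or_ge k 3 with h3 | h3
  · have hk2 : k = 2 := by omega
    subst hk2
    refine evenJ_of_d8 P (f.trans g) ?_
    intro σ y h2 hy hyσ x hx
    have h1 := psl_cent (e σ) (e y) (by rwa [← map_pow, Ne, map_eq_one_iff e e.injective])
      (by rw [← map_pow, ← map_mul, ← map_mul, hy]) (by
        intro h
        apply hyσ
        apply e.injective
        rw [map_mul, map_mul, h]) (e x) (by rw [← map_pow, ← map_mul, ← map_mul, hx])
    rcases h1 with h1 | h1
    · left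
      apply e.injective
      rw [map_mul, map_mul, h1]
    · right
      apply e.injective
      rw [map_mul, map_mul, map_mul, map_mul, map_inv, h1]
  · exact evenJ_of_dihedral P h3 (f.trans g)

/-- **`PSL₂(q)`, `q` odd, nonabelian Sylow 2-subgroups.** -/
theorem evenJ_psl2' {F : Type v} [Field F] [Fintype F] (hodd : Fintype.card F % 2 = 1)
    {S : Type u} [Group S] [Fintype S] (e : S ≃* Matrix.ProjectiveSpecialLinearGroup (Fin 2) F)
    (Q : Sylow 2 S) (hQ : ¬ IsMulCommutative (Q : Subgroup S)) : EvenJ S := by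
  classical
  haveI : Fact (Nat.Prime 2) := ⟨Nat.prime_two⟩
  by_cases h16 : 16 ∣ Fintype.card F ^ 2 - 1
  · exact evenJ_psl2 hodd h16 e
  · exfalso
    apply hQ
    have hcard := Cfsg.Agent.SmallSimple.PSLTwoPart.card_psl_two_odd (F := F) (by
      rw [Nat.odd_iff]; exact hodd)
    rw [← Nat.card_congr e.toEquiv] at hcard
    obtain ⟨m, hm⟩ : ∃ m, Fintype.card F = 2 * m + 1 := ⟨Fintype.card F / 2, by omega⟩
    have hm2 : Fintype.card F ^ 2 - 1 = 4 * (m * (m + 1)) := by
      rw [hm, Nat.sub_eq_iff_eq_add (by nlinarith)]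
      ring
    obtain ⟨a, ha⟩ := IsPGroup.iff_card.1 Q.isPGroup'
    have hle : a ≤ 2 := by
      by_contra hlt
      apply h16
      have h1 : 2 ^ 3 ∣ Nat.card S := by
        refine (Nat.pow_dvd_pow 2 (by omega : 3 ≤ a)).trans ?_
        rw [← ha]
        exact Subgroup.card_subgroup_dvd_card _
      have h2 : 2 ^ 4 ∣ Fintype.card F * (Fintype.card F ^ 2 - 1) := by
        rw [← hcard, show (2 : ℕ) ^ 4 = 2 * 2 ^ 3 by norm_num]
        exact Nat.mul_dvd_mul_left 2 h1
      have h3 : Nat.Coprime (2 ^ 4) (Fintype.card F) := by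
        apply Nat.Coprime.pow_left
        rw [Nat.coprime_two_left, Nat.odd_iff]
        exact hodd
      exact h3.dvd_of_dvd_mul_left h2
    -- groups of order dividing 4
    have h4 : ∃ b, b ≤ 2 ∧ Nat.card (Q : Subgroup S) = 2 ^ b := ⟨a, hle, ha⟩
    rcases Nat.lt_or_ge a 2 with h5 | h5
    · haveI : IsCyclic (Q : Subgroup S) := by
        rcases Nat.lt_or_ge a 1 with h6 | h6
        · have h7 : a = 0 := by omega
          rw [h7, pow_zero] at ha
          haveI := (Nat.card_eq_one_iff_unique.1 ha).1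
          exact isCyclic_of_subsingleton
        · have h7 : a = 1 := by omega
          rw [h7, pow_one] at ha
          exact isCyclic_of_prime_card ha
      exact ⟨⟨fun a b => IsCyclic.commGroup.mul_comm a b⟩⟩
    · have h6 : a = 2 := by omega
      rw [h6] at ha
      exact ⟨⟨fun a b => (IsPGroup.commGroupOfCardEqPrimeSq ha).mul_comm a b⟩⟩

/-! ### Quasidihedral rows -/

section qd

open Cfsg.Agent Cfsg.Agent.GH.Cov.SylowThree Cfsg.Agent.TwoFusion.GUTwo
open scoped MatrixGroups Matrix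

theorem qd_psl3 {F : Type u} [Field F] [Fintype F] (hF4 : Fintype.card F % 4 = 3)
    {X : Type v} [Group X] [Finite X] (e0 : X ≃* Matrix.ProjectiveSpecialLinearGroup (Fin 3) F)
    (h2 : 2 ∣ Nat.card X) (S : Sylow 2 X) : Cfsg.IsQuasiDihedral (S : Subgroup X) := by
  have hF : Odd (Fintype.card F) := by rw [Nat.odd_iff]; omega
  have : Fact (Nat.Prime 2) := ⟨Nat.prime_two⟩
  obtain ⟨t, ht, hi⟩ := exists_central_inv h2 S
  obtain ⟨Z, hZn, -, hZc, ⟨e⟩⟩ := Cfsg.Agent.S1219.result hF (e0 t) (by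
    rw [← ht]; exact orderOf_injective e0.toMonoidHom e0.injective t)
  let φ : GL (Fin 2) F →* X := e0.symm.toMonoidHom.comp ((centralizer
    ({e0 t} : Set (Matrix.ProjectiveSpecialLinearGroup (Fin 3) F))).subtype.comp
      (e.symm.toMonoidHom.comp (QuotientGroup.mk' Z)))
  have hφ : ∀ g, φ g = e0.symm ((e.symm (QuotientGroup.mk' Z g) : centralizer
    ({e0 t} : Set (Matrix.ProjectiveSpecialLinearGroup (Fin 3) F))) :
      Matrix.ProjectiveSpecialLinearGroup (Fin 3) F) := fun g => rfl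
  have hker : φ.ker = Z := by
    ext g
    rw [MonoidHom.mem_ker, hφ, e0.symm.map_eq_one_iff, OneMemClass.coe_eq_one,
      e.symm.map_eq_one_iff]
    exact QuotientGroup.eq_one_iff g
  have hrange : φ.range = centralizer ({t} : Set X) := by
    ext x
    rw [MonoidHom.mem_range, mem_centralizer_singleton_iff]
    constructor
    · rintro ⟨g, rfl⟩
      have h3 := mem_centralizer_singleton_iff.1 (e.symm (QuotientGroup.mk' Z g)).2
      apply e0.injective
      rw [hφ, map_mul, map_mul, e0.apply_symm_apply]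
      exact h3
    · intro hx
      have hx' : e0 x ∈ centralizer
          ({e0 t} : Set (Matrix.ProjectiveSpecialLinearGroup (Fin 3) F)) := by
        rw [mem_centralizer_singleton_iff, ← map_mul, ← map_mul, hx]
      obtain ⟨g, hg⟩ := QuotientGroup.mk'_surjective Z (e ⟨e0 x, hx'⟩)
      refine ⟨g, ?_⟩
      rw [hφ, hg, e.symm_apply_apply]
      exact e0.symm_apply_apply x
  have hk : Odd (Nat.card φ.ker) := by
    rw [hker, hZc]
    exact Odd.of_dvd_nat (by decide : Odd 3) (Nat.gcd_dvd_right _ _)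
  obtain ⟨P⟩ : Nonempty (Sylow 2 (GL (Fin 2) F)) := inferInstance
  obtain ⟨e1⟩ := sylow_iso φ hk (by rw [hrange]; exact hi) P S
  have h3 := Cfsg.Agent.S1217.result P
  exact TwoFusion.SylowTypeTransfer.isQuasiDihedral_of_mulEquiv e1 (h3.1 hF4)

theorem qd_psu3 {F : Type u} [Field F] [Fintype F] {q : ℕ} (hF : Fintype.card F = q ^ 2) (hq4 : q % 4 = 1)
    {X : Type v} [Group X] [Finite X] (e0 : X ≃* Cfsg.PSU 3 F q) (S : Sylow 2 X) :
    Cfsg.IsQuasiDihedral (S : Subgroup X) := by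
  have hq : Odd q := by rw [Nat.odd_iff]; omega
  have : Fact (Nat.Prime 2) := ⟨Nat.prime_two⟩
  have hfin : Finite (Cfsg.PSU 3 F q) := Finite.of_equiv X e0.toEquiv
  let π : Cfsg.SU 3 F q →* Cfsg.PSU 3 F q := QuotientGroup.mk' _
  let φ : GU2 F q →* X := e0.symm.toMonoidHom.comp (π.comp (emb hF))
  have hcZ : Nat.card (center (Cfsg.SU 3 F q)) = Nat.gcd 3 (q + 1) :=
    Cfsg.Agent.S0279.result hF 3 le_rfl
  have hker : ∀ g, g ∈ φ.ker ↔ emb hF g ∈ center (Cfsg.SU 3 F q) := by
    intro g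
    rw [MonoidHom.mem_ker]
    show e0.symm (π (emb hF g)) = 1 ↔ _
    rw [e0.symm.map_eq_one_iff]
    exact QuotientGroup.eq_one_iff _
  have hkd : Nat.card φ.ker ∣ 3 := by
    have h1 : φ.ker.map (emb hF) ≤ center (Cfsg.SU 3 F q) := by
      rintro _ ⟨g, hg, rfl⟩
      exact (hker g).1 hg
    have h2 : Nat.card (φ.ker.map (emb hF)) = Nat.card φ.ker :=
      Subgroup.card_map_of_injective (emb_injective hF)
    rw [← h2]
    exact (Subgroup.card_dvd_of_le h1).trans (hcZ ▸ Nat.gcd_dvd_left _ _)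
  have hk : Odd (Nat.card φ.ker) := Odd.of_dvd_nat (by decide) hkd
  have hG := card_GU2 (F := F) hF
  have hS := Cfsg.Agent.S0278.result hF 3 (by norm_num)
  have hq2 := two_le hF
  have hidx : Odd φ.range.index := by
    -- orders
    have h1 : Nat.card φ.range * φ.range.index = Nat.card X := φ.range.card_mul_index
    have h2 : Nat.card φ.ker * Nat.card φ.range = Nat.card (GU2 F q) := by
      rw [← Subgroup.index_ker, Subgroup.card_mul_index]
    have h3 : Nat.card (Cfsg.SU 3 F q) = Nat.gcd 3 (q + 1) * Nat.card X := by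
      rw [← Subgroup.card_mul_index (center (Cfsg.SU 3 F q)), hcZ, Nat.card_congr e0.toEquiv]
      rfl
    have hprod : (∏ i ∈ Finset.range 3, (if Even i then q ^ (i + 1) + 1 else q ^ (i + 1) - 1)) =
        (q + 1) * (q ^ 2 - 1) * (q ^ 3 + 1) := by
      rw [Finset.prod_range_succ, Finset.prod_range_succ, Finset.prod_range_succ,
        Finset.prod_range_zero]
      norm_num [Nat.even_iff]
    rw [hprod, h3] at hS
    rw [hG] at h2
    generalize Nat.card X = N at *
    generalize Nat.card φ.ker = k at *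
    generalize Nat.card φ.range = R at *
    generalize φ.range.index = i at *
    generalize Nat.gcd 3 (q + 1) = g at *
    obtain ⟨m, rfl⟩ : ∃ m, q = m + 1 := ⟨q - 1, by omega⟩
    have hm : 0 < m := by omega
    have e1 : m + 1 - 1 = m := by omega
    have e2 : (m + 1) ^ 2 - 1 = m * (m + 2) := by
      have : (m + 1) ^ 2 = m * (m + 2) + 1 := by ring
      omega
    have e3 : 3 * (3 - 1) / 2 = 3 := by norm_num
    rw [e2, e3, ← h1] at hS
    rw [e1] at h2
    have key : g * i = k * ((m + 1) ^ 2 * (m ^ 2 + m + 1)) := by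
      have hpos : 0 < (m + 2) ^ 3 * m * (m + 1) := by positivity
      apply Nat.eq_of_mul_eq_mul_left hpos
      calc (m + 2) ^ 3 * m * (m + 1) * (g * i)
          = ((m + 1 + 1) * ((m + 1) * m) * (m + 1 + 1)) * ((m + 1 + 1) * (g * i)) := by ring
        _ = (k * R) * ((m + 1 + 1) * (g * i)) := by rw [h2]
        _ = k * ((m + 1 + 1) * (g * (R * i))) := by ring
        _ = _ := by rw [hS]; ring
    have hodd : Odd (g * i) := by
      rw [key]
      have hme : Even m := by
        rw [Nat.odd_iff] at hq; rw [Nat.even_iff]; omega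
      refine hk.mul ((Even.add_one hme).pow.mul ?_)
      refine Even.add_one ?_
      exact (hme.pow_of_ne_zero two_ne_zero).add hme
    exact (Nat.odd_mul.1 hodd).2
  obtain ⟨P⟩ : Nonempty (Sylow 2 (GU2 F q)) := inferInstance
  obtain ⟨e1⟩ := sylow_iso φ hk hidx P S
  have h3 := Cfsg.Agent.S1218.result q hF hq P
  exact TwoFusion.SylowTypeTransfer.isQuasiDihedral_of_mulEquiv e1 (h3.1 hq4)

end qd

/-- **`PSL₃(q)`, `q = 3 mod 4`.** -/
theorem evenJ_psl3 {F : Type v} [Field F] [Fintype F] (hF : Fintype.card F % 4 = 3)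
    {S : Type u} [Group S] [Fintype S] (e : S ≃* Matrix.ProjectiveSpecialLinearGroup (Fin 3) F)
    (h2 : 2 ∣ Nat.card S) : EvenJ S := by
  obtain ⟨P⟩ : Nonempty (Sylow 2 S) := inferInstance
  exact evenJ_of_qd P (qd_psl3 hF e h2 P)

/-- **`PSU₃(q)`, `q = 1 mod 4`.** -/
theorem evenJ_psu3 {F : Type v} [Field F] [Fintype F] {q : ℕ} (hF : Fintype.card F = q ^ 2)
    (hq : q % 4 = 1) {S : Type u} [Group S] [Fintype S] (e : S ≃* Cfsg.PSU 3 F q) : EvenJ S := by
  obtain ⟨P⟩ : Nonempty (Sylow 2 S) := inferInstance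
  exact evenJ_of_qd P (qd_psu3 hF hq e P)

/-- **`M₁₁`.** -/
theorem evenJ_m11 {S : Type u} [Group S] [Fintype S] (h : Cfsg.Spor.IsoM11 S) (h2 : 2 ∣ Nat.card S) :
    EvenJ S := by
  obtain ⟨P⟩ : Nonempty (Sylow 2 S) := inferInstance
  exact evenJ_of_qd P (Cfsg.Agent.GH.Cov.SylowThree.mEleven h h2 P)

end Cfsg.Agent.H497.EB
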