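import Cfsg.Agent.H684.EB.Base
import Cfsg.Agent.H611.RealBlock
import Cfsg.Agent.Blocks.BlockIdem
import Cfsg.Agent.Blocks.PRegular
import Cfsg.Agent.Blocks.DefectCard
import Cfsg.Agent.S0907

/-!
# Criteria for membership in the principal block

* `mem_of_low`: the degree has a smaller `p`-part than all nontrivial `p`-regular classes.
* `mem_of_low_real`: for `p = 2` and a character fixed by `g ↦ g ^ k` (`IsK`), only the real classes matter.
* `sameBlock_of_reg`: a decomposition on the `p`-regular elements stays inside one block.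
-/

set_option autoImplicit false

namespace Cfsg.Agent.H497.EB

open Cfsg Cfsg.Agent.H610.EB
open scoped ComplexConjugate
open Cfsg.Agent.Blocks Cfsg.Agent.S4490

universe u

section

variable {S : Type u} [Group S] [Fintype S] {M : Ideal AlgInt} {p : ℕ}

theorem centralChar_mem_of_lt (hM : IsPModular p M) (φ : IrrCharacter S) (y : S)
    (h : (charDegree (φ : S → ℂ)).factorization p <
      (Subgroup.centralizer ({y} : Set S)).index.factorization p) :
    MemLocalIdeal M (centralChar (φ : S → ℂ) y) := by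
  by_contra hcon
  exact absurd (DefectCard.factorization_index_le hM φ.2 y hcon) (not_le.2 h)

/-- (LOW) -/
theorem mem_of_low (hM : IsPModular p M) (φ : IrrCharacter S)
    (h : ∀ y : S, IsPRegular p y → y ≠ 1 → (charDegree (φ : S → ℂ)).factorization p <
      (Subgroup.centralizer ({y} : Set S)).index.factorization p) : φ ∈ principalBlock M S := by
  classical
  have : Fact p.Prime := ⟨hM.1⟩
  have hprime : M.IsPrime := Local.isPrime_of_isPModular hM
  let one : IrrCharacter S := ⟨fun _ => 1, Basic.isIrrCharacter_one⟩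
  show SameBlock M (one : S → ℂ) (φ : S → ℂ)
  refine PRegular.sameBlock_of_isPRegular hM one.2 φ.2 fun g hg => ?_
  by_cases h1 : g = 1
  · subst h1
    rw [Basic.centralChar_one (Basic.irr_one_ne_zero one.2),
      Basic.centralChar_one (Basic.irr_one_ne_zero φ.2), sub_self]
    exact Local.memLocalIdeal_zero
  · have h2 := h g hg h1
    refine Local.memLocalIdeal_sub (centralChar_mem_of_lt hM one g ?_) (centralChar_mem_of_lt hM φ g h2)
    have h3 : charDegree (one : S → ℂ) = 1 := Basic.charDegree_of_eq (by simp [one])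
    rw [h3, Nat.factorization_one]
    exact lt_of_le_of_lt (Nat.zero_le _) h2

/-- The central character of `χ` at the idempotent of a real block, when the central character of `χ` vanishes
at the nontrivial real classes of odd order. -/
theorem omegaL_sub_of_real (hM : IsPModular 2 M) (B' : Set (IrrCharacter S))
    (hB' : IsPBlock M B') (hcj : ∀ χ ∈ B', cj χ ∈ B') (χ : IrrCharacter S)
    (hχ : SameBlock M (χ : S → ℂ) (cj χ : S → ℂ))
    (hz : ∀ y : S, Odd (orderOf y) → y ≠ 1 → IsConj y y⁻¹ → MemLocalIdeal M (centralChar (χ : S → ℂ) y)) :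
    MemLocalIdeal M (Central.omegaL (χ : S → ℂ) (Osima.irrIdem B') - blockCoeff B' 1) := by
  classical
  have hprime : M.IsPrime := Local.isPrime_of_isPModular hM
  have := Fintype.ofFinite (ConjClasses S)
  have hcf : IsClassFunction S (χ : S → ℂ) := Characters.Core.isIrr_isClassFunction χ.2
  rw [Central.omegaL_eq_sum_centralChar hcf (Osima.irrIdem_mem_center B')]
  let F : ConjClasses S → ℂ := fun c =>
    (Osima.irrIdem B').coeff (Quotient.out c) * centralChar (χ : S → ℂ) (Quotient.out c : S)
  have hFmk : ∀ g : S, F (ConjClasses.mk g) = blockCoeff B' g * centralChar (χ : S → ℂ) g := by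
    intro g
    have h1 : IsConj (Quotient.out (ConjClasses.mk g) : S) g := by
      rw [← ConjClasses.mk_eq_mk_iff_isConj]
      exact Quotient.out_eq _
    show (Osima.irrIdem B').coeff _ * _ = _
    rw [Osima.coeff_irrIdem, Basic.blockCoeff_isConj B' h1, Basic.centralChar_isConj χ.2 h1]
  let σ : ConjClasses S → ConjClasses S := fun c => ConjClasses.mk (Quotient.out c : S)⁻¹
  have hσmk : ∀ g : S, σ (ConjClasses.mk g) = ConjClasses.mk g⁻¹ := by
    intro g
    have h1 : IsConj (Quotient.out (ConjClasses.mk g) : S) g := by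
      rw [← ConjClasses.mk_eq_mk_iff_isConj]
      exact Quotient.out_eq _
    show ConjClasses.mk _ = _
    rw [ConjClasses.mk_eq_mk_iff_isConj]
    obtain ⟨c, hc⟩ := isConj_iff.1 h1
    refine isConj_iff.2 ⟨c, ?_⟩
    have h2 := congrArg (fun x : S => x⁻¹) hc
    simp only [mul_inv_rev, inv_inv] at h2
    rw [← h2]
    group
  have hR : ∀ g, MemLocalRing M (blockCoeff B' g) := fun g =>
    Osima.memLocalRing_blockCoeff hM hB' g
  have hcR : ∀ g, MemLocalRing M (centralChar (χ : S → ℂ) g) := fun g =>
    Osima.memLocalRing_centralChar hM χ.2 g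
  have h1 : F (ConjClasses.mk 1) = blockCoeff B' 1 := by
    rw [hFmk, Basic.centralChar_one (Basic.irr_one_ne_zero χ.2), mul_one]
  show MemLocalIdeal M (∑ c, F c - blockCoeff B' 1)
  rw [← h1]
  clear_value F σ
  refine sum_sub_of_involution hM σ ?_ F ?_ ?_ _ ?_ ?_
  · intro c
    obtain ⟨g, rfl⟩ := ConjClasses.mk_surjective c
    rw [hσmk, hσmk, inv_inv]
  · intro c
    obtain ⟨g, rfl⟩ := ConjClasses.mk_surjective c
    rw [hFmk]
    exact Local.memLocalRing_mul (hR g) (hcR g)
  · intro c
    obtain ⟨g, rfl⟩ := ConjClasses.mk_surjective c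
    rw [hσmk, hFmk, hFmk, blockCoeff_inv B' hcj, ← mul_sub]
    refine Local.memLocalIdeal_mul_left (hR g) ?_
    rw [← centralChar_cj]
    exact Local.memLocalIdeal_sub_comm (hχ g)
  · rw [hσmk, inv_one]
  · intro c hc hne
    obtain ⟨g, rfl⟩ := ConjClasses.mk_surjective c
    rw [hσmk, ConjClasses.mk_eq_mk_iff_isConj] at hc
    rw [hFmk]
    by_cases hreg : 2 ∣ orderOf g
    · have h2 : blockCoeff B' g = 0 := by
        have : Fact (Nat.Prime 2) := ⟨Nat.prime_two⟩
        rw [Basic.blockCoeff_def, Cfsg.Agent.S0907.result 2 M hM B' hB' 1 g (by simp) hreg,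
          mul_zero]
      rw [h2, zero_mul]
      exact Local.memLocalIdeal_zero
    · refine Local.memLocalIdeal_mul_left (hR g) (hz g ?_ ?_ hc.symm)
      · rw [← Nat.not_even_iff_odd, even_iff_two_dvd]
        exact hreg
      · rintro rfl
        exact hne rfl

/-- (LOW) for fixed characters: only the real elements matter -/
theorem mem_of_low_real {k : ℕ} (hk : IsK S k) (hM : IsPModular 2 M) (φ : IrrCharacter S)
    (hφ : ∀ s : S, (φ : S → ℂ) (s ^ k) = (φ : S → ℂ) s)
    (h : ∀ y : S, Odd (orderOf y) → y ≠ 1 → IsConj y y⁻¹ → (charDegree (φ : S → ℂ)).factorization 2 <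
      (Subgroup.centralizer ({y} : Set S)).index.factorization 2) : φ ∈ principalBlock M S := by
  classical
  have hprime : M.IsPrime := Local.isPrime_of_isPModular hM
  have : Fact (Nat.Prime 2) := ⟨Nat.prime_two⟩
  let one : IrrCharacter S := ⟨fun _ => 1, Basic.isIrrCharacter_one⟩
  have hone : cj one = one := by
    apply Subtype.ext
    funext g
    simp [cj_apply, one]
  have hB0 : IsPBlock M (principalBlock M S) := ⟨one, rfl⟩
  have h1mem : one ∈ principalBlock M S := Basic.mem_blockOf_self one
  have hcj0 : ∀ ψ ∈ principalBlock M S, cj ψ ∈ principalBlock M S := by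
    intro ψ hψ
    have h1 : SameBlock M (one : S → ℂ) (ψ : S → ℂ) := hψ
    have h2 := Cfsg.Agent.H611.RealBlock.sameBlock_cj h1
    rw [hone] at h2
    exact h2
  have hφc : SameBlock M (φ : S → ℂ) (cj φ : S → ℂ) :=
    Cfsg.Agent.H611.RealBlock.sameBlock_cj_of_fixed hM k hk.odd φ hφ
  have e1 := omegaL_sub_of_real hM _ hB0 hcj0 one
    (by
      rw [hone]
      exact Basic.sameBlock_refl _)
    (by
      intro y hy hy1 hr
      apply centralChar_mem_of_lt hM
      have h3 : charDegree (one : S → ℂ) = 1 := Basic.charDegree_of_eq (by simp [one])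
      rw [h3, Nat.factorization_one]
      exact lt_of_le_of_lt (Nat.zero_le _) (h y hy hy1 hr))
  have e2 := omegaL_sub_of_real hM _ hB0 hcj0 φ hφc
    (fun y hy hy1 hr => centralChar_mem_of_lt hM φ y (h y hy hy1 hr))
  rw [Osima.omegaL_irrIdem_of_mem h1mem] at e1
  by_cases hmem : φ ∈ principalBlock M S
  · exact hmem
  · rw [Osima.omegaL_irrIdem_of_notMem hmem] at e2
    exfalso
    have e3 := Local.memLocalIdeal_sub e1 e2
    apply Local.not_memLocalIdeal_one (M := M)
    convert e3 using 1
    ring

/-- (BR) a decomposition on the `p`-regular elements stays inside one block -/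
theorem sameBlock_of_reg (hM : IsPModular p M) (χ θ : IrrCharacter S) {ψ : S → ℂ} (hψ : IsCharacter S ψ)
    (h : ∀ s : S, IsPRegular p s → (χ : S → ℂ) s = (θ : S → ℂ) s + ψ s) :
    SameBlock M (χ : S → ℂ) (θ : S → ℂ) := by
  classical
  have hprime : M.IsPrime := Local.isPrime_of_isPModular hM
  have hp : Fact p.Prime := ⟨hM.1⟩
  have hfin : Finite (IrrCharacter S) := Characters.Core.finite_irr
  have : Fintype (IrrCharacter S) := Fintype.ofFinite _
  let B : Set (IrrCharacter S) := blockOf M (θ : S → ℂ)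
  have hB : IsPBlock M B := ⟨θ, rfl⟩
  have hθB : θ ∈ B := Basic.mem_blockOf_self θ
  suffices hχB : χ ∈ B from Basic.sameBlock_symm hχB
  have hzero : ∀ g : S, ¬ IsPRegular p g → blockCoeff B g = 0 := by
    intro g hg
    rw [Basic.blockCoeff_def, Cfsg.Agent.S0907.result p M hM B hB 1 g (by
      rw [orderOf_one]
      exact hM.1.one_lt.ne' ∘ Nat.dvd_one.1) (not_not.1 hg), mul_zero]
  have h1 : ConvCentral.lin (χ : S → ℂ) (blockCoeff B) =
      ConvCentral.lin (θ : S → ℂ) (blockCoeff B) + ConvCentral.lin ψ (blockCoeff B) := by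
    rw [ConvCentral.lin_def, ConvCentral.lin_def, ConvCentral.lin_def, ← Finset.sum_add_distrib]
    refine Finset.sum_congr rfl fun g _ => ?_
    by_cases hg : IsPRegular p g
    · rw [h g hg, mul_add]
    · rw [hzero g hg, zero_mul, zero_mul, zero_mul, add_zero]
  obtain ⟨m, hm⟩ := Characters.Core.exists_nat_comb hψ
  have h2 : ConvCentral.lin ψ (blockCoeff B) =
      ∑ ξ : IrrCharacter S, (m ξ : ℂ) * ConvCentral.lin (ξ : S → ℂ) (blockCoeff B) := by
    rw [ConvCentral.lin_def, hm]
    simp_rw [ConvCentral.lin_def, Finset.mul_sum]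
    rw [Finset.sum_comm]
    refine Finset.sum_congr rfl fun g _ => ?_
    rw [Finset.sum_apply, Finset.mul_sum]
    refine Finset.sum_congr rfl fun ξ _ => ?_
    rw [Pi.smul_apply, nsmul_eq_mul]
    ring
  have h3 : ∀ ξ : IrrCharacter S, ConvCentral.lin (ξ : S → ℂ) (blockCoeff B) =
      ((if ξ ∈ B then charDegree (ξ : S → ℂ) else 0 : ℕ) : ℂ) := by
    intro ξ
    rw [BlockIdem.lin_blockCoeff, Basic.irr_one_eq_charDegree ξ.2]
    split_ifs <;> simp
  by_contra hχB
  rw [h3 χ, if_neg hχB, h3 θ, if_pos hθB, h2] at h1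
  simp_rw [h3] at h1
  have h4 : 0 = charDegree (θ : S → ℂ) +
      ∑ ξ : IrrCharacter S, m ξ * (if ξ ∈ B then charDegree (ξ : S → ℂ) else 0) := by
    exact_mod_cast h1
  have h5 := Basic.charDegree_pos θ.2
  omega

end

end Cfsg.Agent.H497.EB
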