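import Cfsg.Agent.H497.EB.MC

/-!
# Dihedral Sylow 2-subgroups of order 8, with a small involution centralizer

`D8 P σ y`: the Sylow 2-subgroup `P` of `S` is dihedral of order 8, `σ ∈ P` has order 4, `y ∈ P` is an involution
inverting `σ`, and `C(σ ^ 2) = C(σ) ∪ y C(σ)` (this holds in the groups `PSL₂(q)`). Then `C(σ)` has a linear
character of order 4 as in `TI`, hence `EvenJ S` (`D8.evenJ`).
-/

set_option autoImplicit false
set_option linter.unusedSectionVars false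
set_option linter.style.haveILetI false

namespace Cfsg.Agent.H497.EB

open Cfsg Subgroup Cfsg.Agent.H684.EB

universe u

/-- Dihedral Sylow 2-subgroups of order 8, small centralizer. -/
structure D8 {S : Type u} [Group S] (P : Sylow 2 S) (σ y : S) : Prop where
  hσ : σ ∈ (P : Subgroup S)
  hy : y ∈ (P : Subgroup S)
  ord : orderOf σ = 4
  card : Nat.card (P : Subgroup S) = 8
  rel : y * σ * y⁻¹ = σ ^ 3
  ysq : y ^ 2 = 1
  cent : ∀ x : S, x * σ ^ 2 = σ ^ 2 * x → x ∈ centralizer ({σ} : Set S) ∨ y⁻¹ * x ∈ centralizer ({σ} : Set S)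

namespace D8

variable {S : Type u} [Group S] [Finite S] {P : Sylow 2 S} {σ y : S} (h : D8 P σ y)

include h

theorem zpow_eq_one_iff (c : ℤ) : σ ^ c = 1 ↔ (4 : ℤ) ∣ c := by
  rw [← orderOf_dvd_iff_zpow_eq_one, h.ord]
  rfl

theorem two_ne : σ ^ 2 ≠ 1 := by
  intro h1
  have h2 := (h.zpow_eq_one_iff 2).1 (by exact_mod_cast h1)
  norm_num at h2

theorem four_eq : σ ^ 4 = 1 := by
  rw [← h.ord, pow_orderOf_eq_one]

theorem pow_ne : σ ^ 3 ≠ σ := by
  intro h1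
  apply h.two_ne
  have h2 : σ ^ 3 = σ ^ 2 * σ := by rw [← pow_succ]
  rw [h2] at h1
  exact mul_eq_right.1 h1

/-- `⟨σ⟩` has index two in `P` -/
theorem mul_mem_iff {a b : S} (ha : a ∈ (P : Subgroup S)) (hb : b ∈ (P : Subgroup S)) :
    a * b ∈ zpowers σ ↔ (a ∈ zpowers σ ↔ b ∈ zpowers σ) := by
  have hidx : (zpowers (⟨σ, h.hσ⟩ : (P : Subgroup S))).index = 2 := by
    have h1 := Subgroup.card_mul_index (zpowers (⟨σ, h.hσ⟩ : (P : Subgroup S)))
    rw [Nat.card_zpowers, Subgroup.orderOf_mk, h.ord, h.card] at h1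
    omega
  have key : ∀ x (hx : x ∈ (P : Subgroup S)),
      (⟨x, hx⟩ : (P : Subgroup S)) ∈ zpowers (⟨σ, h.hσ⟩ : (P : Subgroup S)) ↔ x ∈ zpowers σ := by
    intro x hx
    rw [mem_zpowers_iff, mem_zpowers_iff]
    constructor
    · rintro ⟨c, hc⟩
      exact ⟨c, congrArg Subtype.val hc⟩
    · rintro ⟨c, hc⟩
      exact ⟨c, Subtype.ext hc⟩
  have h1 := Subgroup.mul_mem_iff_of_index_two hidx (a := ⟨a, ha⟩) (b := ⟨b, hb⟩)
  rw [key a ha, key b hb] at h1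
  rw [← h1, ← key _ (Subgroup.mul_mem _ ha hb)]
  rfl

theorem y_not_mem : y ∉ zpowers σ := by
  intro h1
  obtain ⟨c, rfl⟩ := mem_zpowers_iff.1 h1
  apply h.pow_ne
  rw [← h.rel]
  group

theorem mem_or {x : S} (hx : x ∈ (P : Subgroup S)) : x ∈ zpowers σ ∨ y⁻¹ * x ∈ zpowers σ := by
  by_cases h1 : x ∈ zpowers σ
  · exact Or.inl h1
  · right
    rw [h.mul_mem_iff (inv_mem h.hy) hx, inv_mem_iff]
    exact ⟨fun h2 => absurd h2 h.y_not_mem, fun h2 => absurd h2 h1⟩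

/-- elements outside `⟨σ⟩` are involutions and invert `σ` -/
theorem of_not_mem {x : S} (hx : x ∈ (P : Subgroup S)) (hxZ : x ∉ zpowers σ) :
    x * σ * x⁻¹ = σ ^ 3 ∧ x ^ 2 = 1 := by
  rcases h.mem_or hx with h1 | h1
  · exact absurd h1 hxZ
  · obtain ⟨c, hc⟩ := mem_zpowers_iff.1 h1
    have h2 : x = y * σ ^ c := by rw [hc, mul_inv_cancel_left]
    refine ⟨?_, ?_⟩
    · rw [h2, ← h.rel]
      group
    · have h3 : σ ^ 3 = σ⁻¹ := by
        rw [eq_inv_iff_mul_eq_one, ← pow_succ, h.four_eq]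
      have h4 : y * σ ^ c * y⁻¹ = (σ ^ c)⁻¹ := by
        rw [← conj_zpow, h.rel, h3, inv_zpow]
      have h5 : y * y = 1 := by rw [← sq, h.ysq]
      rw [h2, sq]
      calc y * σ ^ c * (y * σ ^ c) = (y * σ ^ c * y⁻¹) * (y * y) * σ ^ c := by group
        _ = 1 := by rw [h4, h5, mul_one, inv_mul_cancel]

/-- the center of `P` -/
theorem sq_of_center {z : S} (hz : z ∈ (P : Subgroup S)) (h1 : z * σ * z⁻¹ = σ)
    (h2 : y * z * y⁻¹ = z) : z ^ 2 = 1 := by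
  by_cases h3 : z ∈ zpowers σ
  · obtain ⟨c, rfl⟩ := mem_zpowers_iff.1 h3
    have h5 : σ ^ 3 = σ⁻¹ := by
      rw [eq_inv_iff_mul_eq_one, ← pow_succ, h.four_eq]
    rw [← conj_zpow, h.rel, h5, inv_zpow] at h2
    rw [sq]
    nth_rewrite 1 [← h2]
    exact inv_mul_cancel _
  · have h4 := (h.of_not_mem hz h3).1
    rw [h1] at h4
    exact absurd h4.symm h.pow_ne

/-! ### The centralizer of `σ` -/

theorem sigma_mem : σ ∈ centralizer ({σ} : Set S) := by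
  rw [mem_centralizer_singleton_iff]

set_option quotPrecheck false in
local notation "Tσ" => centralizer ({σ} : Set S)

/-- The Sylow 2-subgroup of the centralizer. -/
theorem exists_sylow : ∃ Q : Sylow 2 Tσ, (Q : Subgroup Tσ) = zpowers ⟨σ, h.sigma_mem⟩ := by
  classical
  haveI : Fact (Nat.Prime 2) := ⟨Nat.prime_two⟩
  have hZ : IsPGroup 2 (zpowers (⟨σ, h.sigma_mem⟩ : Tσ)) := by
    refine IsPGroup.of_card (n := 2) ?_
    rw [Nat.card_zpowers, Subgroup.orderOf_mk, h.ord]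
    norm_num
  obtain ⟨Q, hQ⟩ := hZ.exists_le_sylow
  refine ⟨Q, ?_⟩
  obtain ⟨a, ha⟩ := IsPGroup.iff_card.1 Q.isPGroup'
  have hle : 2 ≤ a := by
    have h1 := Subgroup.card_dvd_of_le hQ
    rw [Nat.card_zpowers, Subgroup.orderOf_mk, h.ord, ha, show (4 : ℕ) = 2 ^ 2 by norm_num] at h1
    exact (Nat.pow_dvd_pow_iff_le_right (by norm_num)).1 h1
  -- the image in `S`
  have hQ1 : IsPGroup 2 ((Q : Subgroup Tσ).map (Tσ).subtype) := Q.isPGroup'.map _
  have hQc : Nat.card ((Q : Subgroup Tσ).map (Tσ).subtype) = 2 ^ a := by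
    rw [Subgroup.card_map_of_injective (Tσ).subtype_injective]
    exact ha
  obtain ⟨R, hR⟩ := hQ1.exists_le_sylow
  obtain ⟨g, hg⟩ := MulAction.exists_smul_eq S R P
  have hRP : ∀ x : S, x ∈ (R : Subgroup S) → g * x * g⁻¹ ∈ (P : Subgroup S) := by
    intro x hx
    rw [← hg]
    exact Subgroup.smul_mem_pointwise_smul x (MulAut.conj g) R hx
  have hPR : ∀ p : S, p ∈ (P : Subgroup S) → ∃ x ∈ (R : Subgroup S), g * x * g⁻¹ = p := by
    intro p hp
    rw [← hg] at hp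
    obtain ⟨x, hx, hxp⟩ := hp
    exact ⟨x, hx, hxp⟩
  have hRc : Nat.card (R : Subgroup S) = 2 ^ 3 := by
    rw [Nat.card_congr (R.equiv P).toEquiv, h.card]
    norm_num
  have hle2 : a ≤ 3 := by
    have h1 := Subgroup.card_dvd_of_le hR
    rw [hQc, hRc] at h1
    exact (Nat.pow_dvd_pow_iff_le_right (by norm_num)).1 h1
  have han : a = 2 := by
    by_contra hne
    have h1 : a = 3 := by omega
    have h2 : (Q : Subgroup Tσ).map (Tσ).subtype = (R : Subgroup S) :=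
      Subgroup.eq_of_le_of_card_ge hR (by rw [hQc, hRc, h1])
    -- `g σ g⁻¹` is central in `P`
    have hcomm : ∀ p ∈ (P : Subgroup S), p * (g * σ * g⁻¹) * p⁻¹ = g * σ * g⁻¹ := by
      intro p hp
      obtain ⟨x, hx, rfl⟩ := hPR p hp
      rw [← h2] at hx
      obtain ⟨t, -, rfl⟩ := hx
      have h3 := mem_centralizer_singleton_iff.1 t.2
      have h4 : (t : S) * σ * (t : S)⁻¹ = σ := by rw [h3, mul_inv_cancel_right]
      calc g * (t : S) * g⁻¹ * (g * σ * g⁻¹) * (g * (t : S) * g⁻¹)⁻¹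
          = g * ((t : S) * σ * (t : S)⁻¹) * g⁻¹ := by group
        _ = _ := by rw [h4]
    have hmem : g * σ * g⁻¹ ∈ (P : Subgroup S) := by
      apply hRP
      rw [← h2]
      refine ⟨⟨σ, h.sigma_mem⟩, ?_, rfl⟩
      exact hQ (mem_zpowers _)
    have h3 := h.sq_of_center hmem (by
      have h4 := hcomm σ h.hσ
      set z := g * σ * g⁻¹ with hz
      have h5 : σ * z = z * σ := by
        calc σ * z = (σ * z * σ⁻¹) * σ := by group
          _ = z * σ := by rw [h4]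
      rw [← h5]
      group) (hcomm y h.hy)
    apply h.two_ne
    rw [conj_pow] at h3
    have h5 : σ ^ 2 = g⁻¹ * (g * σ ^ 2 * g⁻¹) * g := by group
    rw [h5, h3]
    group
  refine (Subgroup.eq_of_le_of_card_ge hQ ?_).symm
  rw [Nat.card_zpowers, Subgroup.orderOf_mk, h.ord]
  exact (ha.trans (by rw [han]; norm_num)).le

/-- 2-elements of `T` are conjugate into `⟨σ⟩` -/
theorem conj_into {x : S} (hx : x ∈ Tσ) (ho : ∃ j : ℕ, orderOf x = 2 ^ j) :
    ∃ g ∈ Tσ, ∃ c : ℤ, x = g * σ ^ c * g⁻¹ := by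
  classical
  haveI : Fact (Nat.Prime 2) := ⟨Nat.prime_two⟩
  obtain ⟨j, hj⟩ := ho
  obtain ⟨Q, hQ⟩ := h.exists_sylow
  have hZ : IsPGroup 2 (zpowers (⟨x, hx⟩ : Tσ)) := by
    refine IsPGroup.of_card (n := j) ?_
    rw [Nat.card_zpowers, Subgroup.orderOf_mk, hj]
  obtain ⟨R, hR⟩ := hZ.exists_le_sylow
  obtain ⟨g, hg⟩ := MulAction.exists_smul_eq Tσ Q R
  have h1 : (⟨x, hx⟩ : Tσ) ∈ (R : Subgroup Tσ) := hR (mem_zpowers _)
  rw [← hg] at h1
  obtain ⟨z, hz, hzx⟩ := h1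
  have h2 : z ∈ (Q : Subgroup Tσ) := hz
  rw [hQ] at h2
  obtain ⟨c, rfl⟩ := mem_zpowers_iff.1 h2
  refine ⟨g, g.2, c, ?_⟩
  have h3 : g * (⟨σ, h.sigma_mem⟩ : Tσ) ^ c * g⁻¹ = (⟨x, hx⟩ : Tσ) := hzx
  have h4 := congrArg (Subgroup.subtype Tσ) h3
  rw [map_mul, map_mul, map_inv, map_zpow] at h4
  exact h4.symm

/-- characters of 2-power order are determined by the value at `σ` -/
theorem hom_eq_one {A : Type*} [CommGroup A] (f : Tσ →* A)
    (h4 : ∀ t, f t ^ 4 = 1) (hf : f ⟨σ, h.sigma_mem⟩ = 1) (t : Tσ) : f t = 1 := by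
  classical
  haveI := Fintype.ofFinite Tσ
  obtain ⟨a, b, ha, -, ha2, hb2, hab⟩ := Cfsg.Agent.H610.EB.exists_two_part t
  have hb : f b = 1 := by
    have h1 : f b ^ orderOf b = 1 := by rw [← map_pow, pow_orderOf_eq_one, map_one]
    have h2 : Nat.Coprime 4 (orderOf b) := Nat.Coprime.pow_left 2 (Nat.coprime_two_left.2 hb2)
    exact orderOf_eq_one_iff.1 (Nat.eq_one_of_dvd_coprimes h2 (orderOf_dvd_of_pow_eq_one (h4 b))
      (orderOf_dvd_of_pow_eq_one h1))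
  have ha' : f a = 1 := by
    obtain ⟨j, hj⟩ := ha2
    obtain ⟨g, hg, c, hc⟩ := h.conj_into a.2 ⟨j, by rw [Subgroup.orderOf_coe]; exact hj⟩
    have h1 : a = ⟨g, hg⟩ * ⟨σ, h.sigma_mem⟩ ^ c * ⟨g, hg⟩⁻¹ := Subtype.ext (by
      rw [Subgroup.coe_mul, Subgroup.coe_mul, Subgroup.coe_inv, Subgroup.coe_zpow]
      exact hc)
    rw [h1, map_mul, map_mul, map_inv, map_zpow, hf, one_zpow, mul_one, mul_inv_cancel]
  rw [hab, map_mul, ha', hb, mul_one]

/-- the character -/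
theorem exists_lam : ∃ lam : Tσ →* ℂˣ, (∀ t, lam t ^ 4 = 1) ∧ lam ⟨σ, h.sigma_mem⟩ ^ 2 ≠ 1 := by
  classical
  haveI : Fact (Nat.Prime 2) := ⟨Nat.prime_two⟩
  obtain ⟨Q, hQ⟩ := h.exists_sylow
  have hσQ : (⟨σ, h.sigma_mem⟩ : Tσ) ∈ (Q : Subgroup Tσ) := by
    rw [hQ]
    exact mem_zpowers _
  have hgen : ∀ x : (Q : Subgroup Tσ), x ∈ zpowers (⟨⟨σ, h.sigma_mem⟩, hσQ⟩ : (Q : Subgroup Tσ)) := by
    rintro ⟨x, hx⟩
    have h1 := hx
    rw [hQ] at h1
    obtain ⟨c, hc⟩ := mem_zpowers_iff.1 h1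
    exact mem_zpowers_iff.2 ⟨c, Subtype.ext hc⟩
  have hcyc : IsCyclic (Q : Subgroup Tσ) := ⟨⟨_, hgen⟩⟩
  have hordT : orderOf (⟨σ, h.sigma_mem⟩ : Tσ) = 4 := by
    rw [Subgroup.orderOf_mk, h.ord]
  have hmin : (Nat.card Tσ).minFac = 2 := by
    rw [Nat.minFac_eq_two_iff]
    have h1 : 4 ∣ Nat.card Tσ := by
      rw [← hordT]
      exact orderOf_dvd_natCard _
    exact (by norm_num : 2 ∣ 4).trans h1
  have hnc := hcyc.normalizer_le_centralizer hmin
  -- a fourth root of unity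
  have hI : Units.mk0 Complex.I Complex.I_ne_zero ^ 4 = 1 := by
    apply Units.ext
    simp [Complex.I_pow_four]
  have hI2 : Units.mk0 Complex.I Complex.I_ne_zero ^ 2 = -1 := by
    apply Units.ext
    simp
  have hdvd : orderOf (Units.mk0 Complex.I Complex.I_ne_zero) ∣
      orderOf (⟨⟨σ, h.sigma_mem⟩, hσQ⟩ : (Q : Subgroup Tσ)) := by
    refine (orderOf_dvd_of_pow_eq_one hI).trans ?_
    rw [Subgroup.orderOf_mk, hordT]
  let χ : (Q : Subgroup Tσ) →* ℂˣ := monoidHomOfForallMemZpowers hgen hdvd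
  have hχ : χ ⟨⟨σ, h.sigma_mem⟩, hσQ⟩ = Units.mk0 Complex.I Complex.I_ne_zero :=
    monoidHomOfForallMemZpowers_apply_gen hgen hdvd
  have hχ4 : ∀ x, χ x ^ 4 = 1 := by
    intro x
    obtain ⟨c, rfl⟩ := mem_zpowers_iff.1 (hgen x)
    rw [map_zpow, hχ, ← zpow_natCast, ← zpow_mul, mul_comm, zpow_mul, zpow_natCast, hI, one_zpow]
  refine ⟨χ.comp (MonoidHom.transferSylow Q hnc), fun t => hχ4 _, ?_⟩
  rw [MonoidHom.comp_apply, MonoidHom.transferSylow_eq_pow Q hnc _ hσQ]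
  have h1 : (⟨(⟨σ, h.sigma_mem⟩ : Tσ) ^ (Q : Subgroup Tσ).index, _⟩ : (Q : Subgroup Tσ)) =
      (⟨⟨σ, h.sigma_mem⟩, hσQ⟩ : (Q : Subgroup Tσ)) ^ (Q : Subgroup Tσ).index := rfl
  rw [h1, map_pow, hχ, ← pow_mul, mul_comm, pow_mul, hI2]
  have h2 : Odd (Q : Subgroup Tσ).index := by
    rw [← Nat.not_even_iff_odd, even_iff_two_dvd]
    exact Q.not_dvd_index
  rw [h2.neg_one_pow]
  intro h3
  have h4 := congrArg (Units.val) h3
  norm_num at h4

theorem conj_mem_T {t : S} (ht : t ∈ Tσ) : y * t * y⁻¹ ∈ Tσ := by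
  rw [mem_centralizer_singleton_iff] at ht ⊢
  have h5 : σ ^ 3 = σ⁻¹ := by
    rw [eq_inv_iff_mul_eq_one, ← pow_succ, h.four_eq]
  have h6 : y⁻¹ * σ * y = σ⁻¹ := by
    have h7 := h.rel
    rw [h5] at h7
    have h8 : y⁻¹ = y := by
      rw [inv_eq_iff_mul_eq_one, ← sq, h.ysq]
    rw [h8] at h7 ⊢
    exact h7
  have h7 : t * σ⁻¹ = σ⁻¹ * t := (show Commute t σ from ht).inv_right
  calc y * t * y⁻¹ * σ = y * (t * (y⁻¹ * σ * y)) * y⁻¹ := by group
    _ = y * (y⁻¹ * σ * y * t) * y⁻¹ := by rw [h6, h7]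
    _ = σ * (y * t * y⁻¹) := by group

/-- elements of `⟨σ⟩` outside `⟨σ ^ 4⟩` -/
theorem exists_zpow {c : ℤ} (hc : ¬ (4 : ℤ) ∣ c) : ∃ d : ℤ, (σ ^ c) ^ d = σ ^ 2 := by
  have key : ∃ d k : ℤ, c * d = 2 + 4 * k := by
    rcases Int.even_or_odd c with ⟨b, hb⟩ | ⟨b, hb⟩
    · have hb1 : Odd b := by
        rw [← Int.not_even_iff_odd]
        rintro ⟨a, ha⟩
        apply hc
        exact ⟨a, by omega⟩
      obtain ⟨a, ha⟩ := hb1
      exact ⟨1, a, by omega⟩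
    · exact ⟨2, b, by omega⟩
  obtain ⟨d, k, hk⟩ := key
  refine ⟨d, ?_⟩
  rw [← zpow_mul, hk, zpow_add, (h.zpow_eq_one_iff _).2 ⟨k, rfl⟩, mul_one]
  norm_cast

/-- **Fusion.** -/
theorem fusion {lam : Tσ →* ℂˣ} (h4 : ∀ t, lam t ^ 4 = 1) (x : S)
    (t t' : Tσ) (htt : (t' : S) = x * t * x⁻¹) (h1 : lam t ≠ 1)
    (h2 : lam t' ≠ 1) : x ∈ Tσ ∨ y⁻¹ * x ∈ Tσ := by
  classical
  haveI := Fintype.ofFinite (Tσ)
  obtain ⟨a, b, ha, hb, ha2, hb2, hab⟩ := Cfsg.Agent.H610.EB.exists_two_part t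
  obtain ⟨i, hi⟩ := mem_zpowers_iff.1 ha
  obtain ⟨j, hj⟩ := mem_zpowers_iff.1 hb
  have hodd1 : ∀ b : Tσ, Odd (orderOf b) → lam b = 1 := by
    intro b hb2
    have h1 : lam b ^ orderOf b = 1 := by rw [← map_pow, pow_orderOf_eq_one, map_one]
    have h2 : Nat.Coprime 4 (orderOf b) := Nat.Coprime.pow_left 2 (Nat.coprime_two_left.2 hb2)
    exact orderOf_eq_one_iff.1 (Nat.eq_one_of_dvd_coprimes h2 (orderOf_dvd_of_pow_eq_one (h4 b))
      (orderOf_dvd_of_pow_eq_one h1))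
  have hord : ∀ (k : ℤ), orderOf (t' ^ k) = orderOf (t ^ k) := by
    intro k
    rw [← Subgroup.orderOf_coe, ← Subgroup.orderOf_coe, Subgroup.coe_zpow, Subgroup.coe_zpow, htt,
      conj_zpow]
    have h5 := orderOf_injective (MulAut.conj x).toMonoidHom (MulAut.conj x).injective ((t : S) ^ k)
    exact h5
  have hla : lam a ≠ 1 := by
    intro h5
    apply h1
    rw [hab, map_mul, h5, hodd1 b hb2, one_mul]
  have hla' : lam (t' ^ i) ≠ 1 := by
    intro h5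
    apply h2
    have h6 : t' = t' ^ i * t' ^ j := by
      apply Subtype.ext
      have h7 : (t : S) = (t : S) ^ i * (t : S) ^ j := by
        have h8 := hab
        rw [← hi, ← hj] at h8
        exact congrArg Subtype.val h8
      rw [Subgroup.coe_mul, Subgroup.coe_zpow, Subgroup.coe_zpow, htt, conj_zpow, conj_zpow]
      conv_lhs => rw [h7]
      group
    rw [h6, map_mul, h5, one_mul]
    apply hodd1
    rw [hord j, hj]
    exact hb2
  obtain ⟨r, hr⟩ := ha2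
  obtain ⟨g, hg, c, hc⟩ := h.conj_into a.2 ⟨r, by rw [Subgroup.orderOf_coe]; exact hr⟩
  obtain ⟨g', hg', c', hc'⟩ := h.conj_into (t' ^ i).2 ⟨r, by
    rw [Subgroup.orderOf_coe, hord i, hi]; exact hr⟩
  have hlc : ∀ (s : Tσ) (g : S) (hg : g ∈ Tσ) (c : ℤ), (s : S) = g * σ ^ c * g⁻¹ → lam s ≠ 1 →
      ¬ (4 : ℤ) ∣ c := by
    rintro s g hg c hs hls ⟨d, rfl⟩
    apply hls
    have h5 : s = ⟨g, hg⟩ * (⟨σ, h.sigma_mem⟩ : Tσ) ^ (4 * d) * ⟨g, hg⟩⁻¹ := Subtype.ext (by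
      rw [Subgroup.coe_mul, Subgroup.coe_mul, Subgroup.coe_inv, Subgroup.coe_zpow]
      exact hs)
    rw [h5, map_mul, map_mul, map_inv, map_zpow, zpow_mul, show lam (⟨σ, h.sigma_mem⟩ : Tσ) ^ (4 : ℤ) = 1
      from by exact_mod_cast h4 _, one_zpow, mul_one, mul_inv_cancel]
  have hc4 := hlc a g hg c hc hla
  have hcc : x * (g * σ ^ c * g⁻¹) * x⁻¹ = g' * σ ^ c' * g'⁻¹ := by
    rw [← hc, ← hc', ← hi, Subgroup.coe_zpow, Subgroup.coe_zpow, htt, conj_zpow]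
  -- `z = g'⁻¹ x g`
  set z : S := g'⁻¹ * x * g with hz
  have hzc : z * σ ^ c * z⁻¹ = σ ^ c' := by
    rw [hz]
    calc g'⁻¹ * x * g * σ ^ c * (g'⁻¹ * x * g)⁻¹ = g'⁻¹ * (x * (g * σ ^ c * g⁻¹) * x⁻¹) * g' := by group
      _ = g'⁻¹ * (g' * σ ^ c' * g'⁻¹) * g' := by rw [hcc]
      _ = σ ^ c' := by group
  obtain ⟨d, hd⟩ := h.exists_zpow hc4
  have hz2 : z * σ ^ 2 = σ ^ 2 * z := by
    have h5 : z * σ ^ 2 * z⁻¹ = σ ^ (c' * d) := by
      rw [← hd, ← conj_zpow, hzc, zpow_mul]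
    have h6 : (σ ^ (c' * d)) ^ 2 = 1 := by
      rw [← h5, conj_pow, ← pow_mul, h.four_eq]
      group
    have h7 : σ ^ (c' * d) ≠ 1 := by
      rw [← h5]
      intro h8
      apply h.two_ne
      have h9 : σ ^ 2 = z⁻¹ * (z * σ ^ 2 * z⁻¹) * z := by group
      rw [h9, h8]
      group
    have h8 : σ ^ (c' * d) = σ ^ 2 := by
      rw [← zpow_natCast, ← zpow_mul, h.zpow_eq_one_iff] at h6
      rw [Ne, h.zpow_eq_one_iff] at h7
      have h9 : (4 : ℤ) ∣ c' * d - 2 := by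
        push_cast at h6
        omega
      have h10 := (h.zpow_eq_one_iff _).2 h9
      rw [zpow_sub, mul_inv_eq_one] at h10
      rw [h10]
      norm_cast
    rw [← mul_inv_eq_iff_eq_mul, h5, h8]
  have hxz : x = g' * z * g⁻¹ := by
    rw [hz]
    group
  rcases h.cent z hz2 with h5 | h5
  · left
    rw [hxz]
    exact mul_mem (mul_mem hg' h5) (inv_mem hg)
  · right
    have h8 : y⁻¹ = y := by
      rw [inv_eq_iff_mul_eq_one, ← sq, h.ysq]
    have h9 : y * g' * y⁻¹ = y⁻¹ * g' * y := by rw [h8]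
    have h6 : y⁻¹ * x = (y * g' * y⁻¹) * (y⁻¹ * z) * g⁻¹ := by
      rw [h9, hxz]
      group
    rw [h6]
    exact mul_mem (mul_mem (h.conj_mem_T hg') h5) (inv_mem hg)

/-- inversion by `y` -/
theorem inversion {lam : Tσ →* ℂˣ} (h4 : ∀ t, lam t ^ 4 = 1)
    (t : Tσ) (hm : y * t * y⁻¹ ∈ Tσ) : lam ⟨y * t * y⁻¹, hm⟩ = (lam t)⁻¹ := by
  let c : Tσ →* Tσ :=
    { toFun := fun t => ⟨y * t * y⁻¹, h.conj_mem_T t.2⟩
      map_one' := Subtype.ext (by simp)
      map_mul' := fun s t => Subtype.ext (by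
        show y * ((s : S) * t) * y⁻¹ = y * s * y⁻¹ * (y * t * y⁻¹)
        group) }
  have h1 := h.hom_eq_one ((lam.comp c) * lam) (fun t => by
    rw [MonoidHom.mul_apply, mul_pow, MonoidHom.comp_apply, h4, h4, one_mul]) (by
    rw [MonoidHom.mul_apply, MonoidHom.comp_apply]
    have h2 : c ⟨σ, h.sigma_mem⟩ = (⟨σ, h.sigma_mem⟩ : Tσ) ^ 3 := Subtype.ext (by
      show y * σ * y⁻¹ = _
      rw [h.rel]
      rfl)
    rw [h2, map_pow, ← pow_succ, h4]) t
  rw [MonoidHom.mul_apply, MonoidHom.comp_apply] at h1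
  exact eq_inv_of_mul_eq_one_left h1

/-- **Automorphisms.** -/
theorem auto {lam : Tσ →* ℂˣ} (h4 : ∀ t, lam t ^ 4 = 1) (a : S ≃* S) :
    ∃ s : S, ∀ t : Tσ, ∃ t' : Tσ, (t' : S) = s * a t * s⁻¹ ∧ lam t' = lam t := by
  classical
  haveI : Fact (Nat.Prime 2) := ⟨Nat.prime_two⟩
  -- move `a P` to `P`
  have hP1 : IsPGroup 2 ((P : Subgroup S).map a.toMonoidHom) := P.isPGroup'.map _
  obtain ⟨R, hR⟩ := hP1.exists_le_sylow
  obtain ⟨g, hg⟩ := MulAction.exists_smul_eq S R P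
  have hgP : ∀ x ∈ (P : Subgroup S), g * a x * g⁻¹ ∈ (P : Subgroup S) := by
    intro x hx
    rw [← hg]
    exact Subgroup.smul_mem_pointwise_smul (a x) (MulAut.conj g) R (hR ⟨x, hx, rfl⟩)
  have hmem := hgP σ h.hσ
  have hne2 : (g * a σ * g⁻¹) ^ 2 ≠ 1 := by
    intro h1
    apply h.two_ne
    rw [conj_pow, ← map_pow] at h1
    have h2 : a (σ ^ 2) = 1 := by
      calc a (σ ^ 2) = g⁻¹ * (g * a (σ ^ 2) * g⁻¹) * g := by group
        _ = 1 := by rw [h1]; group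
    exact (map_eq_one_iff a a.injective).1 h2
  have hZ : g * a σ * g⁻¹ ∈ zpowers σ := by
    by_contra hcon
    exact hne2 (h.of_not_mem hmem hcon).2
  obtain ⟨c, hc⟩ := mem_zpowers_iff.1 hZ
  -- `c` is odd
  have hodd : Odd c := by
    rw [← Int.not_even_iff_odd]
    rintro ⟨d, hd⟩
    apply hne2
    rw [← hc, ← zpow_natCast, ← zpow_mul, h.zpow_eq_one_iff, hd]
    push_cast
    exact ⟨d, by ring⟩
  -- the automorphism preserves `T`
  have hT1 : ∀ t ∈ Tσ, g * a t * g⁻¹ ∈ Tσ := by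
    intro t ht
    rw [mem_centralizer_singleton_iff] at ht ⊢
    have h1 : Commute (g * a t * g⁻¹) (g * a σ * g⁻¹) := by
      show g * a t * g⁻¹ * (g * a σ * g⁻¹) = g * a σ * g⁻¹ * (g * a t * g⁻¹)
      have h2 : a t * a σ = a σ * a t := by rw [← map_mul, ht, map_mul]
      calc g * a t * g⁻¹ * (g * a σ * g⁻¹) = g * (a t * a σ) * g⁻¹ := by group
        _ = g * (a σ * a t) * g⁻¹ := by rw [h2]
        _ = _ := by group
    rw [← hc] at h1
    have h3 := h1.zpow_right c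
    rw [← zpow_mul] at h3
    have h5 : σ ^ (c * c) = σ := by
      have h6 : (4 : ℤ) ∣ c * c - 1 := by
        obtain ⟨k, hk⟩ := hodd
        exact ⟨k * k + k, by rw [hk]; ring⟩
      have h7 := (h.zpow_eq_one_iff _).2 h6
      rw [zpow_sub, mul_inv_eq_one, zpow_one] at h7
      exact h7
    rw [h5] at h3
    exact h3
  let α : Tσ →* Tσ :=
    { toFun := fun t => ⟨g * a t * g⁻¹, hT1 t t.2⟩
      map_one' := Subtype.ext (by simp)
      map_mul' := fun s t => Subtype.ext (by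
        show g * a ((s : S) * t) * g⁻¹ = g * a s * g⁻¹ * (g * a t * g⁻¹)
        rw [map_mul]
        group) }
  have hασ : α ⟨σ, h.sigma_mem⟩ = (⟨σ, h.sigma_mem⟩ : Tσ) ^ c := Subtype.ext (by
    show g * a σ * g⁻¹ = _
    rw [← hc]
    rfl)
  have hinv4 : ∀ z : ℂˣ, z ^ 4 = 1 → z⁻¹ ^ 4 = 1 := fun z hz => by rw [inv_pow, hz, inv_one]
  have hz4 : ∀ (z : ℂˣ) (k : ℤ), z ^ 4 = 1 → z ^ (4 * k) = 1 := by
    intro z k hz
    rw [zpow_mul, show z ^ (4 : ℤ) = 1 from by exact_mod_cast hz, one_zpow]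
  have hcase : (4 : ℤ) ∣ c - 1 ∨ (4 : ℤ) ∣ c + 1 := by
    obtain ⟨k, hk⟩ := hodd
    omega
  rcases hcase with ⟨k, hk⟩ | ⟨k, hk⟩
  · refine ⟨g, fun t => ⟨α t, rfl, ?_⟩⟩
    have h1 := h.hom_eq_one ((lam.comp α) * lam⁻¹) (fun t => by
      rw [MonoidHom.mul_apply, mul_pow, MonoidHom.comp_apply, MonoidHom.inv_apply, h4,
        hinv4 _ (h4 _), one_mul]) (by
      rw [MonoidHom.mul_apply, MonoidHom.comp_apply, MonoidHom.inv_apply, hασ, map_zpow,
        ← zpow_sub_one, hk, hz4 _ _ (h4 _)]) t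
    rw [MonoidHom.mul_apply, MonoidHom.comp_apply, MonoidHom.inv_apply] at h1
    exact mul_inv_eq_one.1 h1
  · refine ⟨y * g, fun t => ⟨⟨y * α t * y⁻¹, h.conj_mem_T (α t).2⟩, ?_, ?_⟩⟩
    · show y * (g * a t * g⁻¹) * y⁻¹ = y * g * a t * (y * g)⁻¹
      group
    · rw [h.inversion h4]
      have h1 := h.hom_eq_one ((lam.comp α) * lam) (fun t => by
        rw [MonoidHom.mul_apply, mul_pow, MonoidHom.comp_apply, h4, h4, one_mul]) (by
        rw [MonoidHom.mul_apply, MonoidHom.comp_apply, hασ, map_zpow, ← zpow_add_one, hk,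
          hz4 _ _ (h4 _)]) t
      rw [MonoidHom.mul_apply, MonoidHom.comp_apply] at h1
      exact inv_eq_of_mul_eq_one_right h1

end D8

/-- **The TI data.** -/
theorem D8.exists_ti {S : Type u} [Group S] [Fintype S] {P : Sylow 2 S} {σ y : S}
    (h : D8 P σ y) : ∃ lam : centralizer ({σ} : Set S) →* ℂˣ, TI (centralizer ({σ} : Set S)) lam y := by
  obtain ⟨lam, h4, h2⟩ := h.exists_lam
  exact ⟨lam, {
    four := h4
    two := ⟨_, h2⟩
    inv := fun t => ⟨⟨y * t * y⁻¹, h.conj_mem_T t.2⟩, rfl, h.inversion h4 t _⟩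
    ti := fun x t t' htt h1 h3 => h.fusion h4 x t t' htt h1 h3
    aut := fun a => h.auto h4 a }⟩

/-- **Dihedral of order 8.** -/
theorem D8.evenJ {S : Type u} [Group S] [Fintype S] {P : Sylow 2 S} {σ y : S}
    (h : D8 P σ y) : EvenJ S := by
  obtain ⟨lam, hlam⟩ := h.exists_ti
  exact hlam.evenJ

/-- **Dihedral Sylow 2-subgroups of order 8, small centralizer.** -/
theorem evenJ_of_d8 {S : Type u} [Group S] [Fintype S] (P : Sylow 2 S)
    (e : (P : Subgroup S) ≃* DihedralGroup 4)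
    (hcent : ∀ σ y : S, σ ^ 2 ≠ 1 → y * σ ^ 2 = σ ^ 2 * y → y * σ ≠ σ * y → ∀ x : S,
      x * σ ^ 2 = σ ^ 2 * x → x * σ = σ * x ∨ y⁻¹ * x * σ = σ * (y⁻¹ * x)) : EvenJ S := by
  set x := e.symm (DihedralGroup.r 1) with hx
  set y := e.symm (DihedralGroup.sr 0) with hy
  have ho : orderOf x = 4 := by
    rw [hx, MulEquiv.orderOf_eq e.symm]
    exact DihedralGroup.orderOf_r_one
  have hc : Nat.card (P : Subgroup S) = 8 := by
    rw [Nat.card_congr e.toEquiv, DihedralGroup.nat_card]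
  have hrel : y * x * y⁻¹ = x ^ 3 := by
    apply e.injective
    rw [map_mul, map_mul, map_inv, map_pow, hx, hy, MulEquiv.apply_symm_apply,
      MulEquiv.apply_symm_apply, DihedralGroup.r_one_pow]
    rw [DihedralGroup.inv_sr, DihedralGroup.sr_mul_r, DihedralGroup.sr_mul_sr]
    rfl
  have hsq : y ^ 2 = 1 := by
    apply e.injective
    rw [map_pow, hy, MulEquiv.apply_symm_apply, map_one, sq, DihedralGroup.sr_mul_sr]
    rfl
  have hx2 : (x : S) ^ 2 ≠ 1 := by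
    intro h1
    have h2 := orderOf_dvd_of_pow_eq_one h1
    rw [Subgroup.orderOf_coe, ho] at h2
    norm_num at h2
  have hyx2 : (y : S) * (x : S) ^ 2 = (x : S) ^ 2 * y := by
    have h1 : y * x ^ 2 = x ^ 2 * y := by
      apply e.injective
      rw [map_mul, map_mul, map_pow, hx, hy, MulEquiv.apply_symm_apply, MulEquiv.apply_symm_apply,
        DihedralGroup.r_one_pow, DihedralGroup.sr_mul_r, DihedralGroup.r_mul_sr]
      rfl
    exact congrArg Subtype.val h1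
  have hyx : (y : S) * (x : S) ≠ (x : S) * y := by
    intro h1
    have h2 : y * x = x * y := Subtype.ext h1
    have h3 := congrArg e h2
    rw [map_mul, map_mul, hx, hy, MulEquiv.apply_symm_apply, MulEquiv.apply_symm_apply,
      DihedralGroup.sr_mul_r, DihedralGroup.r_mul_sr] at h3
    exact absurd h3 (by decide)
  have h1 : D8 P (x : S) (y : S) := {
    hσ := x.2
    hy := y.2
    ord := by rw [Subgroup.orderOf_coe, ho]
    card := hc
    rel := congrArg Subtype.val hrel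
    ysq := congrArg Subtype.val hsq
    cent := fun z hz => by
      rw [mem_centralizer_singleton_iff, mem_centralizer_singleton_iff]
      exact hcent x y hx2 hyx2 hyx z hz }
  exact h1.evenJ

end Cfsg.Agent.H497.EB
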