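import Cfsg.Agent.H497.EB.TI

/-!
# Sylow 2-subgroups of maximal class of order at least 16

`MC P σ y n u`: the Sylow 2-subgroup `P` of `S` has order `2 ^ (n + 1)`, `n ≥ 3`, and contains `σ` of order `2 ^ n`,
`y` with `y σ y⁻¹ = σ ^ u`, `u = 3 mod 4` (dihedral, semidihedral or quaternion). Then `T = C(σ ^ 2)` has a linear
character of order 4 as in `TI`, hence `EvenJ S` (`MC.evenJ`).
-/

set_option autoImplicit false
set_option linter.unusedSectionVars false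
set_option linter.style.haveILetI false

namespace Cfsg.Agent.H497.EB

open Cfsg Subgroup Cfsg.Agent.H684.EB

universe u

/-- A Sylow 2-subgroup of maximal class, of order at least 16. -/
structure MC {S : Type u} [Group S] (P : Sylow 2 S) (σ y : S) (n v : ℕ) : Prop where
  hn : 3 ≤ n
  hσ : σ ∈ (P : Subgroup S)
  hy : y ∈ (P : Subgroup S)
  ord : orderOf σ = 2 ^ n
  card : Nat.card (P : Subgroup S) = 2 ^ (n + 1)
  rel : y * σ * y⁻¹ = σ ^ v
  hv : v % 4 = 3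

namespace MC

variable {S : Type u} [Group S] [Finite S] {P : Sylow 2 S} {σ y : S} {n v : ℕ} (h : MC P σ y n v)

include h

theorem zpow_eq_one_iff (c : ℤ) : σ ^ c = 1 ↔ (2 : ℤ) ^ n ∣ c := by
  rw [← orderOf_dvd_iff_zpow_eq_one, h.ord]
  push_cast
  rfl

theorem eight_dvd : (8 : ℤ) ∣ 2 ^ n := by
  obtain ⟨k, hk⟩ := Nat.exists_eq_add_of_le h.hn
  exact ⟨2 ^ k, by rw [hk, pow_add]; norm_num⟩

theorem four_ne : σ ^ 4 ≠ 1 := by
  intro h1
  have h2 := (h.zpow_eq_one_iff 4).1 (by exact_mod_cast h1)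
  have h3 := h.eight_dvd.trans h2
  norm_num at h3

theorem pow_ne : σ ^ v ≠ σ := by
  intro h1
  have h2 : σ ^ ((v : ℤ) - 1) = 1 := by
    rw [zpow_sub, zpow_natCast, h1, zpow_one, mul_inv_cancel]
  have h3 := h.eight_dvd.trans ((h.zpow_eq_one_iff _).1 h2)
  have h4 := h.hv
  omega

/-- elements of `⟨σ⟩` centralized by an element acting like `y` -/
theorem sq_of_comm {x ζ : S} (hx : x * σ * x⁻¹ = σ ^ v) (hζ : ζ ∈ zpowers σ)
    (hc : x * ζ * x⁻¹ = ζ) : ζ ^ 2 = 1 := by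
  obtain ⟨c, rfl⟩ := mem_zpowers_iff.1 hζ
  rw [← conj_zpow, hx, ← zpow_natCast, ← zpow_mul] at hc
  have h1 : σ ^ (c * ((v : ℤ) - 1)) = 1 := by
    have h2 : c * ((v : ℤ) - 1) = (v : ℤ) * c - c := by ring
    rw [h2, zpow_sub, hc, mul_inv_cancel]
  rw [h.zpow_eq_one_iff] at h1
  have h2 : (2 : ℤ) ^ n ∣ 2 * c := by
    obtain ⟨k, hk⟩ : ∃ k : ℤ, (v : ℤ) - 1 = 2 * (2 * k + 1) := ⟨v / 4, by have := h.hv; omega⟩
    rw [hk, show c * (2 * (2 * k + 1)) = (2 * c) * (2 * k + 1) by ring] at h1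
    refine IsCoprime.dvd_of_dvd_mul_right ?_ h1
    refine IsCoprime.pow_left ?_
    exact ⟨-k, 1, by ring⟩
  rw [← zpow_natCast, ← zpow_mul, h.zpow_eq_one_iff, mul_comm]
  exact h2

/-- `⟨σ⟩` has index two in `P` -/
theorem mul_mem_iff {a b : S} (ha : a ∈ (P : Subgroup S)) (hb : b ∈ (P : Subgroup S)) :
    a * b ∈ zpowers σ ↔ (a ∈ zpowers σ ↔ b ∈ zpowers σ) := by
  have hidx : (zpowers (⟨σ, h.hσ⟩ : (P : Subgroup S))).index = 2 := by
    have h1 := Subgroup.card_mul_index (zpowers (⟨σ, h.hσ⟩ : (P : Subgroup S)))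
    rw [Nat.card_zpowers, Subgroup.orderOf_mk, h.ord, h.card, pow_succ] at h1
    exact Nat.eq_of_mul_eq_mul_left (by positivity) h1
  have key : ∀ x (hx : x ∈ (P : Subgroup S)),
      (⟨x, hx⟩ : (P : Subgroup S)) ∈ zpowers (⟨σ, h.hσ⟩ : (P : Subgroup S)) ↔ x ∈ zpowers σ := by
    intro x hx
    rw [mem_zpowers_iff, mem_zpowers_iff]
    constructor
    · rintro ⟨c, hc⟩
      exact ⟨c, congrArg Subtype.val hc⟩
    · rintro ⟨c, hc⟩
      exact ⟨c, Subtype.ext hc⟩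
  have h1 := Subgroup.mul_mem_iff_of_index_two hidx (a := ⟨a, ha⟩) (b := ⟨b, hb⟩)
  rw [key a ha, key b hb] at h1
  rw [← h1, ← key _ (Subgroup.mul_mem _ ha hb)]
  rfl

theorem y_not_mem : y ∉ zpowers σ := by
  intro h1
  obtain ⟨c, rfl⟩ := mem_zpowers_iff.1 h1
  apply h.pow_ne
  rw [← h.rel]
  group

theorem mem_or {x : S} (hx : x ∈ (P : Subgroup S)) : x ∈ zpowers σ ∨ y⁻¹ * x ∈ zpowers σ := by
  by_cases h1 : x ∈ zpowers σ
  · exact Or.inl h1
  · right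
    rw [h.mul_mem_iff (inv_mem h.hy) hx, inv_mem_iff]
    exact ⟨fun h2 => absurd h2 h.y_not_mem, fun h2 => absurd h2 h1⟩

theorem conj_of_not_mem {x : S} (hx : x ∈ (P : Subgroup S)) (hxZ : x ∉ zpowers σ) :
    x * σ * x⁻¹ = σ ^ v := by
  rcases h.mem_or hx with h1 | h1
  · exact absurd h1 hxZ
  · obtain ⟨c, hc⟩ := mem_zpowers_iff.1 h1
    have h2 : x = y * σ ^ c := by rw [hc, mul_inv_cancel_left]
    rw [h2, ← h.rel]
    group

/-- the center of `P` -/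
theorem sq_of_center {z : S} (hz : z ∈ (P : Subgroup S)) (h1 : z * σ * z⁻¹ = σ)
    (h2 : y * z * y⁻¹ = z) : z ^ 2 = 1 := by
  by_cases h3 : z ∈ zpowers σ
  · exact h.sq_of_comm h.rel h3 h2
  · have h4 := h.conj_of_not_mem hz h3
    rw [h1] at h4
    exact absurd h4.symm h.pow_ne

theorem four_of_not_mem {x : S} (hx : x ∈ (P : Subgroup S)) (hxZ : x ∉ zpowers σ) : x ^ 4 = 1 := by
  have h1 := h.conj_of_not_mem hx hxZ
  have h2 : x ^ 2 ∈ zpowers σ := by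
    rw [sq, h.mul_mem_iff hx hx]
  have h3 := h.sq_of_comm h1 h2 (by group)
  rw [← h3]
  group

/-! ### The centralizer of `σ ^ 2` -/

theorem sigma_mem : σ ∈ centralizer ({σ ^ 2} : Set S) := by
  rw [mem_centralizer_singleton_iff]
  group

theorem ord_sq : orderOf (σ ^ 2) = 2 ^ (n - 1) := by
  have hn := h.hn
  rw [orderOf_pow_of_dvd (by norm_num) (by rw [h.ord]; exact dvd_pow_self 2 (by omega)), h.ord]
  obtain ⟨m, rfl⟩ : ∃ m, n = m + 1 := ⟨n - 1, by omega⟩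
  rw [pow_succ]
  simp

/-- The Sylow 2-subgroup of the centralizer. -/
theorem exists_sylow : ∃ Q : Sylow 2 (centralizer ({σ ^ 2} : Set S)),
    (Q : Subgroup (centralizer ({σ ^ 2} : Set S))) = zpowers ⟨σ, h.sigma_mem⟩ := by
  classical
  haveI : Fact (Nat.Prime 2) := ⟨Nat.prime_two⟩
  set T : Subgroup S := centralizer ({σ ^ 2} : Set S) with hT
  have hZ : IsPGroup 2 (zpowers (⟨σ, h.sigma_mem⟩ : T)) := by
    refine IsPGroup.of_card (n := n) ?_
    rw [Nat.card_zpowers, Subgroup.orderOf_mk, h.ord]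
  obtain ⟨Q, hQ⟩ := hZ.exists_le_sylow
  refine ⟨Q, ?_⟩
  obtain ⟨a, ha⟩ := IsPGroup.iff_card.1 Q.isPGroup'
  have hle : n ≤ a := by
    have h1 := Subgroup.card_dvd_of_le hQ
    rw [Nat.card_zpowers, Subgroup.orderOf_mk, h.ord, ha] at h1
    exact (Nat.pow_dvd_pow_iff_le_right (by norm_num)).1 h1
  -- the image in `S`
  have hQ1 : IsPGroup 2 ((Q : Subgroup T).map T.subtype) := Q.isPGroup'.map _
  have hQc : Nat.card ((Q : Subgroup T).map T.subtype) = 2 ^ a := by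
    rw [Subgroup.card_map_of_injective T.subtype_injective]
    exact ha
  obtain ⟨R, hR⟩ := hQ1.exists_le_sylow
  obtain ⟨g, hg⟩ := MulAction.exists_smul_eq S R P
  have hRP : ∀ x : S, x ∈ (R : Subgroup S) → g * x * g⁻¹ ∈ (P : Subgroup S) := by
    intro x hx
    rw [← hg]
    exact Subgroup.smul_mem_pointwise_smul x (MulAut.conj g) R hx
  have hPR : ∀ p : S, p ∈ (P : Subgroup S) → ∃ x ∈ (R : Subgroup S), g * x * g⁻¹ = p := by
    intro p hp
    rw [← hg] at hp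
    obtain ⟨x, hx, hxp⟩ := hp
    exact ⟨x, hx, hxp⟩
  have hRc : Nat.card (R : Subgroup S) = 2 ^ (n + 1) := by
    rw [← h.card]
    exact Nat.card_congr (R.equiv P).toEquiv
  have hle2 : a ≤ n + 1 := by
    have h1 := Subgroup.card_dvd_of_le hR
    rw [hQc, hRc] at h1
    exact (Nat.pow_dvd_pow_iff_le_right (by norm_num)).1 h1
  have han : a = n := by
    by_contra hne
    have h1 : a = n + 1 := by omega
    have h2 : (Q : Subgroup T).map T.subtype = (R : Subgroup S) :=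
      Subgroup.eq_of_le_of_card_ge hR (by rw [hQc, hRc, h1])
    -- `g σ² g⁻¹` is central in `P`
    have hcomm : ∀ p ∈ (P : Subgroup S), p * (g * σ ^ 2 * g⁻¹) * p⁻¹ = g * σ ^ 2 * g⁻¹ := by
      intro p hp
      obtain ⟨x, hx, rfl⟩ := hPR p hp
      rw [← h2] at hx
      obtain ⟨t, -, rfl⟩ := hx
      have h3 := mem_centralizer_singleton_iff.1 t.2
      have h4 : (t : S) * σ ^ 2 * (t : S)⁻¹ = σ ^ 2 := by rw [h3, mul_inv_cancel_right]
      calc g * (t : S) * g⁻¹ * (g * σ ^ 2 * g⁻¹) * (g * (t : S) * g⁻¹)⁻¹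
          = g * ((t : S) * σ ^ 2 * (t : S)⁻¹) * g⁻¹ := by group
        _ = _ := by rw [h4]
    have hmem : g * σ ^ 2 * g⁻¹ ∈ (P : Subgroup S) := by
      apply hRP
      rw [← h2]
      refine ⟨⟨σ, h.sigma_mem⟩ ^ 2, ?_, rfl⟩
      exact Subgroup.pow_mem _ (hQ (mem_zpowers _)) 2
    have h3 := h.sq_of_center hmem (by
      have h4 := hcomm σ h.hσ
      set z := g * σ ^ 2 * g⁻¹ with hz
      have h5 : σ * z = z * σ := by
        calc σ * z = (σ * z * σ⁻¹) * σ := by group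
          _ = z * σ := by rw [h4]
      rw [← h5]
      group) (hcomm y h.hy)
    apply h.four_ne
    have h4 : g * σ ^ 4 * g⁻¹ = 1 := by
      rw [← h3, conj_pow, ← pow_mul]
    have h5 : σ ^ 4 = g⁻¹ * (g * σ ^ 4 * g⁻¹) * g := by group
    rw [h5, h4]
    group
  refine (Subgroup.eq_of_le_of_card_ge hQ ?_).symm
  rw [Nat.card_zpowers, Subgroup.orderOf_mk, h.ord, ← han]
  exact ha.le

/-- 2-elements of `T` are conjugate into `⟨σ⟩` -/
theorem conj_into {x : S} (hx : x ∈ centralizer ({σ ^ 2} : Set S)) (ho : ∃ j : ℕ, orderOf x = 2 ^ j) :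
    ∃ g ∈ centralizer ({σ ^ 2} : Set S), ∃ c : ℤ, x = g * σ ^ c * g⁻¹ := by
  classical
  haveI : Fact (Nat.Prime 2) := ⟨Nat.prime_two⟩
  obtain ⟨j, hj⟩ := ho
  set T : Subgroup S := centralizer ({σ ^ 2} : Set S) with hT
  obtain ⟨Q, hQ⟩ : ∃ Q : Sylow 2 T, (Q : Subgroup T) = zpowers ⟨σ, h.sigma_mem⟩ := h.exists_sylow
  have hZ : IsPGroup 2 (zpowers (⟨x, hx⟩ : T)) := by
    refine IsPGroup.of_card (n := j) ?_
    rw [Nat.card_zpowers, Subgroup.orderOf_mk, hj]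
  obtain ⟨R, hR⟩ := hZ.exists_le_sylow
  obtain ⟨g, hg⟩ := MulAction.exists_smul_eq T Q R
  have h1 : (⟨x, hx⟩ : T) ∈ (R : Subgroup T) := hR (mem_zpowers _)
  rw [← hg] at h1
  obtain ⟨z, hz, hzx⟩ := h1
  have h2 : z ∈ (Q : Subgroup T) := hz
  rw [hQ] at h2
  obtain ⟨c, rfl⟩ := mem_zpowers_iff.1 h2
  refine ⟨g, g.2, c, ?_⟩
  have h3 : g * (⟨σ, h.sigma_mem⟩ : T) ^ c * g⁻¹ = (⟨x, hx⟩ : T) := hzx
  have h4 := congrArg (Subgroup.subtype T) h3
  rw [map_mul, map_mul, map_inv, map_zpow] at h4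
  exact h4.symm

/-- characters of 2-power order are determined by the value at `σ` -/
theorem hom_eq_one {A : Type*} [CommGroup A] (f : centralizer ({σ ^ 2} : Set S) →* A)
    (h4 : ∀ t, f t ^ 4 = 1) (hf : f ⟨σ, h.sigma_mem⟩ = 1) (t : centralizer ({σ ^ 2} : Set S)) : f t = 1 := by
  classical
  haveI := Fintype.ofFinite (centralizer ({σ ^ 2} : Set S))
  obtain ⟨a, b, ha, -, ha2, hb2, hab⟩ := Cfsg.Agent.H610.EB.exists_two_part t
  have hb : f b = 1 := by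
    have h1 : f b ^ orderOf b = 1 := by rw [← map_pow, pow_orderOf_eq_one, map_one]
    have h2 : Nat.Coprime 4 (orderOf b) := Nat.Coprime.pow_left 2 (Nat.coprime_two_left.2 hb2)
    exact orderOf_eq_one_iff.1 (Nat.eq_one_of_dvd_coprimes h2 (orderOf_dvd_of_pow_eq_one (h4 b))
      (orderOf_dvd_of_pow_eq_one h1))
  have ha' : f a = 1 := by
    obtain ⟨j, hj⟩ := ha2
    obtain ⟨g, hg, c, hc⟩ := h.conj_into a.2 ⟨j, by rw [Subgroup.orderOf_coe]; exact hj⟩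
    have h1 : a = ⟨g, hg⟩ * ⟨σ, h.sigma_mem⟩ ^ c * ⟨g, hg⟩⁻¹ := Subtype.ext (by
      rw [Subgroup.coe_mul, Subgroup.coe_mul, Subgroup.coe_inv, Subgroup.coe_zpow]
      exact hc)
    rw [h1, map_mul, map_mul, map_inv, map_zpow, hf, one_zpow, mul_one, mul_inv_cancel]
  rw [hab, map_mul, ha', hb, mul_one]

/-- the character -/
theorem exists_lam : ∃ lam : centralizer ({σ ^ 2} : Set S) →* ℂˣ, (∀ t, lam t ^ 4 = 1) ∧
    lam ⟨σ, h.sigma_mem⟩ ^ 2 ≠ 1 := by
  classical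
  haveI : Fact (Nat.Prime 2) := ⟨Nat.prime_two⟩
  set T : Subgroup S := centralizer ({σ ^ 2} : Set S) with hT
  obtain ⟨Q, hQ⟩ : ∃ Q : Sylow 2 T, (Q : Subgroup T) = zpowers ⟨σ, h.sigma_mem⟩ := h.exists_sylow
  set σT : T := ⟨σ, h.sigma_mem⟩ with hσT
  have hσQ : σT ∈ (Q : Subgroup T) := by
    rw [hQ]
    exact mem_zpowers _
  have hgen : ∀ x : (Q : Subgroup T), x ∈ zpowers (⟨σT, hσQ⟩ : (Q : Subgroup T)) := by
    rintro ⟨x, hx⟩
    have h1 := hx
    rw [hQ] at h1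
    obtain ⟨c, hc⟩ := mem_zpowers_iff.1 h1
    exact mem_zpowers_iff.2 ⟨c, Subtype.ext hc⟩
  have hcyc : IsCyclic (Q : Subgroup T) := ⟨⟨_, hgen⟩⟩
  have hordT : orderOf σT = 2 ^ n := by
    rw [hσT, Subgroup.orderOf_mk, h.ord]
  have hmin : (Nat.card T).minFac = 2 := by
    rw [Nat.minFac_eq_two_iff]
    have h1 : 2 ^ n ∣ Nat.card T := by
      rw [← hordT]
      exact orderOf_dvd_natCard _
    exact (dvd_pow_self 2 (by have := h.hn; omega)).trans h1
  have hnc := hcyc.normalizer_le_centralizer hmin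
  -- a fourth root of unity
  have hI : Units.mk0 Complex.I Complex.I_ne_zero ^ 4 = 1 := by
    apply Units.ext
    simp [Complex.I_pow_four]
  have hI2 : Units.mk0 Complex.I Complex.I_ne_zero ^ 2 = -1 := by
    apply Units.ext
    simp
  have hdvd : orderOf (Units.mk0 Complex.I Complex.I_ne_zero) ∣
      orderOf (⟨σT, hσQ⟩ : (Q : Subgroup T)) := by
    refine (orderOf_dvd_of_pow_eq_one hI).trans ?_
    rw [Subgroup.orderOf_mk, hordT]
    exact ⟨2 ^ (n - 2), by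
      obtain ⟨m, rfl⟩ : ∃ m, n = m + 2 := ⟨n - 2, by have := h.hn; omega⟩
      rw [pow_add]
      norm_num
      ring⟩
  let χ : (Q : Subgroup T) →* ℂˣ := monoidHomOfForallMemZpowers hgen hdvd
  have hχ : χ ⟨σT, hσQ⟩ = Units.mk0 Complex.I Complex.I_ne_zero :=
    monoidHomOfForallMemZpowers_apply_gen hgen hdvd
  have hχ4 : ∀ x, χ x ^ 4 = 1 := by
    intro x
    obtain ⟨c, rfl⟩ := mem_zpowers_iff.1 (hgen x)
    rw [map_zpow, hχ, ← zpow_natCast, ← zpow_mul, mul_comm, zpow_mul, zpow_natCast, hI, one_zpow]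
  refine ⟨χ.comp (MonoidHom.transferSylow Q hnc), fun t => hχ4 _, ?_⟩
  rw [MonoidHom.comp_apply, MonoidHom.transferSylow_eq_pow Q hnc σT hσQ]
  have h1 : (⟨σT ^ (Q : Subgroup T).index, _⟩ : (Q : Subgroup T)) = (⟨σT, hσQ⟩ : (Q : Subgroup T)) ^
      (Q : Subgroup T).index := rfl
  rw [h1, map_pow, hχ, ← pow_mul, mul_comm, pow_mul, hI2]
  have h2 : Odd (Q : Subgroup T).index := by
    rw [← Nat.not_even_iff_odd, even_iff_two_dvd]
    exact Q.not_dvd_index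
  rw [h2.neg_one_pow]
  intro h3
  have h4 := congrArg (Units.val) h3
  norm_num at h4

/-! ### The normalizer of `⟨σ ^ 2⟩` -/

theorem conj_mem_T {x : S} (hx : x ∈ normalizer (zpowers (σ ^ 2) : Set S)) {t : S}
    (ht : t ∈ centralizer ({σ ^ 2} : Set S)) : x * t * x⁻¹ ∈ centralizer ({σ ^ 2} : Set S) := by
  rw [mem_centralizer_singleton_iff] at ht ⊢
  have h1 : x⁻¹ * σ ^ 2 * x ∈ zpowers (σ ^ 2) := by
    have h2 := (mem_normalizer_iff''.1 hx (σ ^ 2)).1 (mem_zpowers _)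
    exact h2
  obtain ⟨c, hc⟩ := mem_zpowers_iff.1 h1
  have h2 : Commute t ((σ ^ 2) ^ c) := (show Commute t (σ ^ 2) from ht).zpow_right c
  rw [hc] at h2
  have h3 : t * (x⁻¹ * σ ^ 2 * x) = x⁻¹ * σ ^ 2 * x * t := h2
  calc x * t * x⁻¹ * σ ^ 2 = x * (t * (x⁻¹ * σ ^ 2 * x)) * x⁻¹ := by group
    _ = x * (x⁻¹ * σ ^ 2 * x * t) * x⁻¹ := by rw [h3]
    _ = σ ^ 2 * (x * t * x⁻¹) := by group

theorem mem_norm {x : S} (hx : x * σ ^ 2 * x⁻¹ ∈ zpowers (σ ^ 2)) :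
    x ∈ normalizer (zpowers (σ ^ 2) : Set S) := by
  apply mem_normalizer_fintype
  rintro z hz
  obtain ⟨c, rfl⟩ := mem_zpowers_iff.1 hz
  show x * (σ ^ 2) ^ c * x⁻¹ ∈ zpowers (σ ^ 2)
  rw [← conj_zpow]
  exact zpow_mem hx c

theorem sigma_norm : σ ∈ normalizer (zpowers (σ ^ 2) : Set S) := by
  apply h.mem_norm
  have h1 : σ * σ ^ 2 * σ⁻¹ = σ ^ 2 := by group
  rw [h1]
  exact mem_zpowers _

theorem y_norm : y ∈ normalizer (zpowers (σ ^ 2) : Set S) := by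
  apply h.mem_norm
  have h1 : y * σ ^ 2 * y⁻¹ = (σ ^ 2) ^ v := by
    rw [← conj_pow, h.rel, ← pow_mul, ← pow_mul, mul_comm]
  rw [h1]
  exact npow_mem_zpowers _ _

theorem P_le : (P : Subgroup S) ≤ normalizer (zpowers (σ ^ 2) : Set S) := by
  intro x hx
  have hZ : zpowers σ ≤ normalizer (zpowers (σ ^ 2) : Set S) := by
    rw [zpowers_le]
    exact h.sigma_norm
  rcases h.mem_or hx with h1 | h1
  · exact hZ h1
  · have h2 := mul_mem h.y_norm (hZ h1)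
    rwa [mul_inv_cancel_left] at h2

/-- **The normalizer.** -/
theorem norm_cases {x : S} (hx : x ∈ normalizer (zpowers (σ ^ 2) : Set S)) :
    x ∈ centralizer ({σ ^ 2} : Set S) ∨ y⁻¹ * x ∈ centralizer ({σ ^ 2} : Set S) := by
  classical
  haveI : Fact (Nat.Prime 2) := ⟨Nat.prime_two⟩
  set N : Subgroup S := normalizer (zpowers (σ ^ 2) : Set S) with hN
  set T : Subgroup S := centralizer ({σ ^ 2} : Set S) with hT
  have hTc : T = centralizer (zpowers (σ ^ 2) : Set S) := by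
    rw [hT]
    apply le_antisymm
    · intro t ht
      rw [mem_centralizer_iff]
      intro z hz
      obtain ⟨c, rfl⟩ := mem_zpowers_iff.1 hz
      exact ((show Commute t (σ ^ 2) from mem_centralizer_singleton_iff.1 ht).zpow_right c).symm
    · intro t ht
      rw [mem_centralizer_singleton_iff]
      exact (mem_centralizer_iff.1 ht (σ ^ 2) (mem_zpowers _)).symm
  haveI hTn : (T.subgroupOf N).Normal := ⟨fun t ht g => by
    rw [mem_subgroupOf] at ht ⊢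
    exact h.conj_mem_T g.2 ht⟩
  have hidx : ∃ j : ℕ, (T.subgroupOf N).index = 2 ^ j := by
    have h1 := card_dvd_of_injective _ (QuotientGroup.kerLift_injective
      (normalizerMonoidHom (zpowers (σ ^ 2))))
    rw [normalizerMonoidHom_ker, ← hTc] at h1
    have hcyc : IsCyclic (zpowers (σ ^ 2)) := inferInstance
    rw [hcyc.card_mulAut, Nat.card_zpowers, h.ord_sq, Nat.totient_prime_pow Nat.prime_two
      (by have := h.hn; omega)] at h1
    have h2 : (T.subgroupOf N).index ∣ 2 ^ (n - 1 - 1) := by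
      have h3 : 2 ^ (n - 1 - 1) * (2 - 1) = 2 ^ (n - 1 - 1) := by norm_num
      rw [h3] at h1
      exact h1
    obtain ⟨i, -, hi⟩ := (Nat.dvd_prime_pow Nat.prime_two).1 h2
    exact ⟨i, hi⟩
  haveI := Fintype.ofFinite N
  have htop := Cfsg.Agent.H610.EB.sup_sylow (T.subgroupOf N) hidx (P.subtype h.P_le)
  have h1 : (⟨x, hx⟩ : N) ∈ T.subgroupOf N ⊔ ((P.subtype h.P_le : Sylow 2 N) : Subgroup N) := by
    rw [htop]
    exact mem_top _
  obtain ⟨t, ht, p, hp, htp⟩ := Subgroup.mem_sup_of_normal_left.1 h1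
  have ht' : (t : S) ∈ T := ht
  have hp' : (p : S) ∈ (P : Subgroup S) := hp
  have hxe : x = (t : S) * p := (congrArg Subtype.val htp).symm
  have hZT : zpowers σ ≤ T := by
    rw [zpowers_le]
    exact h.sigma_mem
  rcases h.mem_or hp' with h2 | h2
  · left
    rw [hxe]
    exact mul_mem ht' (hZT h2)
  · right
    have h3 : y⁻¹ * x = (y⁻¹ * t * y⁻¹⁻¹) * (y⁻¹ * p) := by
      rw [hxe]
      group
    rw [h3]
    exact mul_mem (h.conj_mem_T (inv_mem h.y_norm) ht') (hZT h2)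

/-- elements of `⟨σ⟩` outside `⟨σ ^ 4⟩` -/
theorem exists_zpow {c : ℤ} (hc : ¬ (4 : ℤ) ∣ c) : ∃ d : ℤ, (σ ^ c) ^ d = σ ^ 2 := by
  -- `c d = 2` modulo `2 ^ n`
  have key : ∃ d k : ℤ, c * d = 2 + 2 ^ n * k := by
    rcases Int.even_or_odd c with ⟨b, hb⟩ | hc1
    · have hb1 : Odd b := by
        rw [← Int.not_even_iff_odd]
        rintro ⟨a, ha⟩
        apply hc
        exact ⟨a, by omega⟩
      have h1 : IsCoprime b (2 ^ n) := by
        refine IsCoprime.pow_right ?_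
        obtain ⟨a, ha⟩ := hb1
        exact ⟨1, -a, by rw [ha]; ring⟩
      obtain ⟨p, q, hpq⟩ := h1
      refine ⟨p, -(2 * q), ?_⟩
      rw [hb]
      linear_combination 2 * hpq
    · have h1 : IsCoprime c (2 ^ n) := by
        refine IsCoprime.pow_right ?_
        obtain ⟨a, ha⟩ := hc1
        exact ⟨1, -a, by rw [ha]; ring⟩
      obtain ⟨p, q, hpq⟩ := h1
      refine ⟨2 * p, -(2 * q), ?_⟩
      linear_combination 2 * hpq
  obtain ⟨d, k, hk⟩ := key
  refine ⟨d, ?_⟩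
  rw [← zpow_mul, hk, zpow_add, (h.zpow_eq_one_iff _).2 ⟨k, rfl⟩, mul_one]
  norm_cast

/-- elements of `⟨σ⟩` of order dividing `2 ^ (n - 1)` -/
theorem mem_zpowers_sq {c : ℤ} (hc : (σ ^ c) ^ 2 ^ (n - 1) = 1) : σ ^ c ∈ zpowers (σ ^ 2) := by
  rw [← zpow_natCast, ← zpow_mul, h.zpow_eq_one_iff] at hc
  push_cast at hc
  obtain ⟨m, hm⟩ : ∃ m, n = m + 1 := ⟨n - 1, by have := h.hn; omega⟩
  rw [hm, Nat.add_sub_cancel, pow_succ, mul_comm ((2 : ℤ) ^ m) 2] at hc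
  have h1 : (2 : ℤ) ∣ c := Int.dvd_of_mul_dvd_mul_right (by positivity) hc
  obtain ⟨d, rfl⟩ := h1
  refine mem_zpowers_iff.2 ⟨d, ?_⟩
  rw [← zpow_natCast, ← zpow_mul]
  norm_cast

local notation "Tσ" => centralizer ({σ ^ 2} : Set S)

/-- **Fusion.** -/
theorem fusion {lam : Tσ →* ℂˣ} (h4 : ∀ t, lam t ^ 4 = 1) (x : S)
    (t t' : Tσ) (htt : (t' : S) = x * t * x⁻¹) (h1 : lam t ≠ 1)
    (h2 : lam t' ≠ 1) : x ∈ Tσ ∨ y⁻¹ * x ∈ Tσ := by
  classical
  haveI := Fintype.ofFinite (Tσ)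
  obtain ⟨a, b, ha, hb, ha2, hb2, hab⟩ := Cfsg.Agent.H610.EB.exists_two_part t
  obtain ⟨i, hi⟩ := mem_zpowers_iff.1 ha
  obtain ⟨j, hj⟩ := mem_zpowers_iff.1 hb
  have hodd1 : ∀ b : Tσ, Odd (orderOf b) → lam b = 1 := by
    intro b hb2
    have h1 : lam b ^ orderOf b = 1 := by rw [← map_pow, pow_orderOf_eq_one, map_one]
    have h2 : Nat.Coprime 4 (orderOf b) := Nat.Coprime.pow_left 2 (Nat.coprime_two_left.2 hb2)
    exact orderOf_eq_one_iff.1 (Nat.eq_one_of_dvd_coprimes h2 (orderOf_dvd_of_pow_eq_one (h4 b))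
      (orderOf_dvd_of_pow_eq_one h1))
  have hord : ∀ (k : ℤ), orderOf (t' ^ k) = orderOf (t ^ k) := by
    intro k
    rw [← Subgroup.orderOf_coe, ← Subgroup.orderOf_coe, Subgroup.coe_zpow, Subgroup.coe_zpow, htt,
      conj_zpow]
    have h5 := orderOf_injective (MulAut.conj x).toMonoidHom (MulAut.conj x).injective ((t : S) ^ k)
    exact h5
  have hla : lam a ≠ 1 := by
    intro h5
    apply h1
    rw [hab, map_mul, h5, hodd1 b hb2, one_mul]
  have hla' : lam (t' ^ i) ≠ 1 := by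
    intro h5
    apply h2
    have h6 : t' = t' ^ i * t' ^ j := by
      apply Subtype.ext
      have h7 : (t : S) = (t : S) ^ i * (t : S) ^ j := by
        have h8 := hab
        rw [← hi, ← hj] at h8
        exact congrArg Subtype.val h8
      rw [Subgroup.coe_mul, Subgroup.coe_zpow, Subgroup.coe_zpow, htt, conj_zpow, conj_zpow]
      conv_lhs => rw [h7]
      group
    rw [h6, map_mul, h5, one_mul]
    apply hodd1
    rw [hord j, hj]
    exact hb2
  obtain ⟨r, hr⟩ := ha2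
  obtain ⟨g, hg, c, hc⟩ := h.conj_into a.2 ⟨r, by rw [Subgroup.orderOf_coe]; exact hr⟩
  obtain ⟨g', hg', c', hc'⟩ := h.conj_into (t' ^ i).2 ⟨r, by
    rw [Subgroup.orderOf_coe, hord i, hi]; exact hr⟩
  have hlc : ∀ (s : Tσ) (g : S) (hg : g ∈ Tσ) (c : ℤ), (s : S) = g * σ ^ c * g⁻¹ → lam s ≠ 1 →
      ¬ (4 : ℤ) ∣ c := by
    rintro s g hg c hs hls ⟨d, rfl⟩
    apply hls
    have h5 : s = ⟨g, hg⟩ * (⟨σ, h.sigma_mem⟩ : Tσ) ^ (4 * d) * ⟨g, hg⟩⁻¹ := Subtype.ext (by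
      rw [Subgroup.coe_mul, Subgroup.coe_mul, Subgroup.coe_inv, Subgroup.coe_zpow]
      exact hs)
    rw [h5, map_mul, map_mul, map_inv, map_zpow, zpow_mul, show lam (⟨σ, h.sigma_mem⟩ : Tσ) ^ (4 : ℤ) = 1
      from by exact_mod_cast h4 _, one_zpow, mul_one, mul_inv_cancel]
  have hc4 := hlc a g hg c hc hla
  have hcc : x * (g * σ ^ c * g⁻¹) * x⁻¹ = g' * σ ^ c' * g'⁻¹ := by
    rw [← hc, ← hc', ← hi, Subgroup.coe_zpow, Subgroup.coe_zpow, htt, conj_zpow]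
  -- `z = g'⁻¹ x g`
  set z : S := g'⁻¹ * x * g with hz
  have hzc : z * σ ^ c * z⁻¹ = σ ^ c' := by
    rw [hz]
    calc g'⁻¹ * x * g * σ ^ c * (g'⁻¹ * x * g)⁻¹ = g'⁻¹ * (x * (g * σ ^ c * g⁻¹) * x⁻¹) * g' := by group
      _ = g'⁻¹ * (g' * σ ^ c' * g'⁻¹) * g' := by rw [hcc]
      _ = σ ^ c' := by group
  obtain ⟨d, hd⟩ := h.exists_zpow hc4
  have hzN : z ∈ normalizer (zpowers (σ ^ 2) : Set S) := by
    apply h.mem_norm
    have h5 : z * σ ^ 2 * z⁻¹ = σ ^ (c' * d) := by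
      rw [← hd, ← conj_zpow, hzc, zpow_mul]
    rw [h5]
    apply h.mem_zpowers_sq
    rw [← h5, conj_pow, ← h.ord_sq, pow_orderOf_eq_one]
    group
  have hxz : x = g' * z * g⁻¹ := by
    rw [hz]
    group
  rcases h.norm_cases hzN with h5 | h5
  · left
    rw [hxz]
    exact mul_mem (mul_mem hg' h5) (inv_mem hg)
  · right
    have h6 : y⁻¹ * x = (y⁻¹ * g' * y⁻¹⁻¹) * (y⁻¹ * z) * g⁻¹ := by
      rw [hxz]
      group
    rw [h6]
    exact mul_mem (mul_mem (h.conj_mem_T (inv_mem h.y_norm) hg') h5) (inv_mem hg)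

/-- inversion by `y` -/
theorem inversion {lam : Tσ →* ℂˣ} (h4 : ∀ t, lam t ^ 4 = 1)
    (t : Tσ) (hm : y * t * y⁻¹ ∈ Tσ) :
    lam ⟨y * t * y⁻¹, hm⟩ = (lam t)⁻¹ := by
  let c : Tσ →* Tσ :=
    { toFun := fun t => ⟨y * t * y⁻¹, h.conj_mem_T h.y_norm t.2⟩
      map_one' := Subtype.ext (by simp)
      map_mul' := fun s t => Subtype.ext (by
        show y * ((s : S) * t) * y⁻¹ = y * s * y⁻¹ * (y * t * y⁻¹)
        group) }
  have h1 := h.hom_eq_one ((lam.comp c) * lam) (fun t => by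
    rw [MonoidHom.mul_apply, mul_pow, MonoidHom.comp_apply, h4, h4, one_mul]) (by
    rw [MonoidHom.mul_apply, MonoidHom.comp_apply]
    have h2 : c ⟨σ, h.sigma_mem⟩ = (⟨σ, h.sigma_mem⟩ : Tσ) ^ v := Subtype.ext (by
      show y * σ * y⁻¹ = _
      rw [h.rel]
      rfl)
    rw [h2, map_pow, ← pow_succ]
    obtain ⟨k, hk⟩ : ∃ k, v + 1 = 4 * k := ⟨v / 4 + 1, by have := h.hv; omega⟩
    rw [hk, pow_mul, h4, one_pow]) t
  rw [MonoidHom.mul_apply, MonoidHom.comp_apply] at h1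
  exact eq_inv_of_mul_eq_one_left h1

/-- **Automorphisms.** -/
theorem auto {lam : Tσ →* ℂˣ} (h4 : ∀ t, lam t ^ 4 = 1) (a : S ≃* S) :
    ∃ s : S, ∀ t : Tσ, ∃ t' : Tσ,
      (t' : S) = s * a t * s⁻¹ ∧ lam t' = lam t := by
  classical
  haveI : Fact (Nat.Prime 2) := ⟨Nat.prime_two⟩
  -- move `a P` to `P`
  have hP1 : IsPGroup 2 ((P : Subgroup S).map a.toMonoidHom) := P.isPGroup'.map _
  obtain ⟨R, hR⟩ := hP1.exists_le_sylow
  obtain ⟨g, hg⟩ := MulAction.exists_smul_eq S R P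
  have hgP : ∀ x ∈ (P : Subgroup S), g * a x * g⁻¹ ∈ (P : Subgroup S) := by
    intro x hx
    rw [← hg]
    exact Subgroup.smul_mem_pointwise_smul (a x) (MulAut.conj g) R (hR ⟨x, hx, rfl⟩)
  have hmem := hgP σ h.hσ
  have hZ : g * a σ * g⁻¹ ∈ zpowers σ := by
    by_contra hcon
    have h1 := h.four_of_not_mem hmem hcon
    apply h.four_ne
    rw [conj_pow, ← map_pow] at h1
    have h2 : a (σ ^ 4) = 1 := by
      calc a (σ ^ 4) = g⁻¹ * (g * a (σ ^ 4) * g⁻¹) * g := by group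
        _ = 1 := by rw [h1]; group
    exact (map_eq_one_iff a a.injective).1 h2
  obtain ⟨c, hc⟩ := mem_zpowers_iff.1 hZ
  -- `c` is odd
  have hodd : Odd c := by
    rw [← Int.not_even_iff_odd]
    rintro ⟨d, hd⟩
    have h1 : (g * a σ * g⁻¹) ^ 2 ^ (n - 1) = 1 := by
      rw [← hc, ← zpow_natCast, ← zpow_mul, h.zpow_eq_one_iff, hd]
      push_cast
      refine ⟨d, ?_⟩
      obtain ⟨m, hm⟩ : ∃ m, n = m + 1 := ⟨n - 1, by have := h.hn; omega⟩
      rw [hm, Nat.add_sub_cancel, pow_succ]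
      ring
    rw [conj_pow, ← map_pow] at h1
    have h2 : a (σ ^ 2 ^ (n - 1)) = 1 := by
      calc a (σ ^ 2 ^ (n - 1)) = g⁻¹ * (g * a (σ ^ 2 ^ (n - 1)) * g⁻¹) * g := by group
        _ = 1 := by rw [h1]; group
    have h3 : σ ^ 2 ^ (n - 1) = 1 := (map_eq_one_iff a a.injective).1 h2
    have h5 := orderOf_dvd_of_pow_eq_one h3
    rw [h.ord, Nat.pow_dvd_pow_iff_le_right (by norm_num)] at h5
    have := h.hn
    omega
  -- the automorphism preserves `Tσ`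
  have hT1 : ∀ t ∈ Tσ, g * a t * g⁻¹ ∈ Tσ := by
    intro t ht
    rw [mem_centralizer_singleton_iff] at ht ⊢
    obtain ⟨d, hd⟩ := h.exists_zpow (c := 2 * c) (by
      obtain ⟨k, hk⟩ := hodd
      omega)
    have h1 : Commute (g * a t * g⁻¹) (g * a (σ ^ 2) * g⁻¹) := by
      show g * a t * g⁻¹ * (g * a (σ ^ 2) * g⁻¹) = g * a (σ ^ 2) * g⁻¹ * (g * a t * g⁻¹)
      have h2 : a t * a (σ ^ 2) = a (σ ^ 2) * a t := by rw [← map_mul, ht, map_mul]
      calc g * a t * g⁻¹ * (g * a (σ ^ 2) * g⁻¹) = g * (a t * a (σ ^ 2)) * g⁻¹ := by group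
        _ = g * (a (σ ^ 2) * a t) * g⁻¹ := by rw [h2]
        _ = _ := by group
    have h2 : g * a (σ ^ 2) * g⁻¹ = σ ^ (2 * c) := by
      rw [map_pow, ← conj_pow, ← hc, ← zpow_natCast, ← zpow_mul, mul_comm]
      norm_cast
    rw [h2] at h1
    have h3 := h1.zpow_right d
    rw [hd] at h3
    exact h3
  let α : Tσ →* Tσ :=
    { toFun := fun t => ⟨g * a t * g⁻¹, hT1 t t.2⟩
      map_one' := Subtype.ext (by simp)
      map_mul' := fun s t => Subtype.ext (by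
        show g * a ((s : S) * t) * g⁻¹ = g * a s * g⁻¹ * (g * a t * g⁻¹)
        rw [map_mul]
        group) }
  have hασ : α ⟨σ, h.sigma_mem⟩ = (⟨σ, h.sigma_mem⟩ : Tσ) ^ c := Subtype.ext (by
    show g * a σ * g⁻¹ = _
    rw [← hc]
    rfl)
  have hinv4 : ∀ z : ℂˣ, z ^ 4 = 1 → z⁻¹ ^ 4 = 1 := fun z hz => by rw [inv_pow, hz, inv_one]
  have hz4 : ∀ (z : ℂˣ) (k : ℤ), z ^ 4 = 1 → z ^ (4 * k) = 1 := by
    intro z k hz
    rw [zpow_mul, show z ^ (4 : ℤ) = 1 from by exact_mod_cast hz, one_zpow]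
  have hcase : (4 : ℤ) ∣ c - 1 ∨ (4 : ℤ) ∣ c + 1 := by
    obtain ⟨k, hk⟩ := hodd
    omega
  rcases hcase with ⟨k, hk⟩ | ⟨k, hk⟩
  · refine ⟨g, fun t => ⟨α t, rfl, ?_⟩⟩
    have h1 := h.hom_eq_one ((lam.comp α) * lam⁻¹) (fun t => by
      rw [MonoidHom.mul_apply, mul_pow, MonoidHom.comp_apply, MonoidHom.inv_apply, h4,
        hinv4 _ (h4 _), one_mul]) (by
      rw [MonoidHom.mul_apply, MonoidHom.comp_apply, MonoidHom.inv_apply, hασ, map_zpow,
        ← zpow_sub_one, hk, hz4 _ _ (h4 _)]) t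
    rw [MonoidHom.mul_apply, MonoidHom.comp_apply, MonoidHom.inv_apply] at h1
    exact mul_inv_eq_one.1 h1
  · refine ⟨y * g, fun t => ⟨⟨y * α t * y⁻¹, h.conj_mem_T h.y_norm (α t).2⟩, ?_, ?_⟩⟩
    · show y * (g * a t * g⁻¹) * y⁻¹ = y * g * a t * (y * g)⁻¹
      group
    · rw [h.inversion h4]
      have h1 := h.hom_eq_one ((lam.comp α) * lam) (fun t => by
        rw [MonoidHom.mul_apply, mul_pow, MonoidHom.comp_apply, h4, h4, one_mul]) (by
        rw [MonoidHom.mul_apply, MonoidHom.comp_apply, hασ, map_zpow, ← zpow_add_one, hk,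
          hz4 _ _ (h4 _)]) t
      rw [MonoidHom.mul_apply, MonoidHom.comp_apply] at h1
      exact inv_eq_of_mul_eq_one_right h1

end MC

/-- **The TI data.** -/
theorem MC.exists_ti {S : Type u} [Group S] [Fintype S] {P : Sylow 2 S} {σ y : S} {n v : ℕ}
    (h : MC P σ y n v) : ∃ lam : centralizer ({σ ^ 2} : Set S) →* ℂˣ,
      TI (centralizer ({σ ^ 2} : Set S)) lam y := by
  obtain ⟨lam, h4, h2⟩ := h.exists_lam
  exact ⟨lam, {
    four := h4
    two := ⟨_, h2⟩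
    inv := fun t => ⟨⟨y * t * y⁻¹, h.conj_mem_T h.y_norm t.2⟩, rfl, h.inversion h4 t _⟩
    ti := fun x t t' htt h1 h3 => h.fusion h4 x t t' htt h1 h3
    aut := fun a => h.auto h4 a }⟩

/-- **Maximal class, order at least 16.** -/
theorem MC.evenJ {S : Type u} [Group S] [Fintype S] {P : Sylow 2 S} {σ y : S} {n v : ℕ}
    (h : MC P σ y n v) : EvenJ S := by
  obtain ⟨lam, hlam⟩ := h.exists_ti
  exact hlam.evenJ

/-- **Quasidihedral Sylow 2-subgroups.** -/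
theorem evenJ_of_qd {S : Type u} [Group S] [Fintype S] (P : Sylow 2 S)
    (hP : IsQuasiDihedral (P : Subgroup S)) : EvenJ S := by
  obtain ⟨n, hn, hc, x, y, hx, hy, hxy⟩ := hP
  have h1 : MC P (x : S) (y : S) n (2 ^ (n - 1) - 1) := {
    hn := hn
    hσ := x.2
    hy := y.2
    ord := by rw [Subgroup.orderOf_coe, hx]
    card := hc
    rel := congrArg Subtype.val hxy
    hv := by
      obtain ⟨k, rfl⟩ : ∃ k, n = k + 3 := ⟨n - 3, by omega⟩
      have h2 : 2 ^ (k + 3 - 1) = 4 * 2 ^ k := by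
        rw [show k + 3 - 1 = k + 2 from rfl, pow_add]
        ring
      have h3 : 0 < 2 ^ k := by positivity
      omega }
  exact h1.evenJ

/-- **Dihedral Sylow 2-subgroups of order at least 16.** -/
theorem evenJ_of_dihedral {S : Type u} [Group S] [Fintype S] (P : Sylow 2 S) {n : ℕ} (hn : 3 ≤ n)
    (e : (P : Subgroup S) ≃* DihedralGroup (2 ^ n)) : EvenJ S := by
  set x := e.symm (DihedralGroup.r 1) with hx
  set y := e.symm (DihedralGroup.sr 0) with hy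
  have ho : orderOf x = 2 ^ n := by
    rw [hx, MulEquiv.orderOf_eq e.symm]
    exact DihedralGroup.orderOf_r_one
  have hc : Nat.card (P : Subgroup S) = 2 ^ (n + 1) := by
    rw [Nat.card_congr e.toEquiv, DihedralGroup.nat_card]
    ring
  have hrel : y * x * y⁻¹ = x ^ (2 ^ n - 1) := by
    apply e.injective
    rw [map_mul, map_mul, map_inv, map_pow, hx, hy, MulEquiv.apply_symm_apply,
      MulEquiv.apply_symm_apply, DihedralGroup.r_one_pow]
    rw [DihedralGroup.inv_sr, DihedralGroup.sr_mul_r, DihedralGroup.sr_mul_sr]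
    congr 1
    have h1 : 1 ≤ 2 ^ n := Nat.one_le_two_pow
    rw [Nat.cast_sub h1]
    simp
  have h1 : MC P (x : S) (y : S) n (2 ^ n - 1) := {
    hn := hn
    hσ := x.2
    hy := y.2
    ord := by rw [Subgroup.orderOf_coe, ho]
    card := hc
    rel := congrArg Subtype.val hrel
    hv := by
      obtain ⟨k, rfl⟩ : ∃ k, n = k + 2 := ⟨n - 2, by omega⟩
      have h2 : 2 ^ (k + 2) = 4 * 2 ^ k := by
        rw [pow_add]
        ring
      have h3 : 0 < 2 ^ k := by positivity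
      omega }
  exact h1.evenJ

end Cfsg.Agent.H497.EB
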