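import Cfsg.Agent.H497.EB.Three
import Cfsg.Agent.H610.EB.RPhi
import Cfsg.Agent.OddOrderCharacters.CyclicTI

/-!
# A linear character of order four of a subgroup which is TI outside its kernel

`TI T lam w`: `lam` is a linear character of order 4 of the subgroup `T` of the finite group `S`, inverted by `w`;
elements outside the kernel of `lam` are fused only by `T ∪ w T`; the pair is unique up to `Aut S`-conjugacy.
Then `Ψ = Ind (lam - 1)` has norm 3 and degree 0, vanishes on the elements of odd order, and `S` has a character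
with all the properties of `RPhi` (`TI.exists_rphi`, `TI.evenJ`).
-/

set_option autoImplicit false
set_option linter.unusedSectionVars false
set_option linter.style.haveILetI false

namespace Cfsg.Agent.H497.EB

open Cfsg Cfsg.Agent.H610.EB Cfsg.Agent.H694 Cfsg.Agent.Characters Cfsg.Agent.Characters.Core
open Cfsg.Agent.H684.EB
open scoped ComplexConjugate
open Cfsg.Agent.Blocks
open Cfsg.Agent.OddOrderCharacters.CyclicTI (classInner_hom conj_hom_apply)

universe u

section pow

variable {C : Type u} [Group C] [Fintype C] {k : ℕ}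

/-- linear characters of 2-power order are power-fixed -/
theorem hom_pow_eq {A : Type*} [CommGroup A] (hk : IsK C k) (f : C →* A) (x : C)
    (hj : ∃ j : ℕ, f x ^ 2 ^ j = 1) : f (x ^ k) = f x := by
  obtain ⟨j, hj⟩ := hj
  obtain ⟨u, v, -, hv, hu2, hv2, huv⟩ := exists_two_part x
  have hfv : f v = 1 := by
    obtain ⟨n, hn⟩ := Subgroup.mem_zpowers_iff.1 hv
    have h1 : f v ^ 2 ^ j = 1 := by
      rw [← hn, map_zpow, ← zpow_natCast, ← zpow_mul, mul_comm, zpow_mul, zpow_natCast, hj, one_zpow]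
    have h2 : f v ^ orderOf v = 1 := by rw [← map_pow, pow_orderOf_eq_one, map_one]
    have h3 : Nat.Coprime (2 ^ j) (orderOf v) := Nat.Coprime.pow_left j (Nat.coprime_two_left.2 hv2)
    exact orderOf_eq_one_iff.1 (Nat.eq_one_of_dvd_coprimes h3 (orderOf_dvd_of_pow_eq_one h1)
      (orderOf_dvd_of_pow_eq_one h2))
  have hfx : f x = f u := by rw [huv, map_mul, hfv, mul_one]
  rw [map_pow, hfx, ← map_pow, hk.two u hu2]

end pow

variable {S : Type u} [Group S] [Fintype S]

/-- A linear character of order 4, TI outside its kernel. -/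
structure TI (T : Subgroup S) (lam : T →* ℂˣ) (w : S) : Prop where
  four : ∀ t, lam t ^ 4 = 1
  two : ∃ t, lam t ^ 2 ≠ 1
  inv : ∀ t : T, ∃ t' : T, (t' : S) = w * t * w⁻¹ ∧ lam t' = (lam t)⁻¹
  ti : ∀ (x : S) (t t' : T), (t' : S) = x * t * x⁻¹ → lam t ≠ 1 → lam t' ≠ 1 → x ∈ T ∨ w⁻¹ * x ∈ T
  aut : ∀ a : S ≃* S, ∃ s : S, ∀ t : T, ∃ t' : T, (t' : S) = s * a t * s⁻¹ ∧ lam t' = lam t

variable {T : Subgroup S} {lam : T →* ℂˣ} {w : S}

/-- `lam - 1` -/
noncomputable def eta (lam : T →* ℂˣ) : T → ℂ := fun t => (lam t : ℂ) - 1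

/-- the induced character -/
noncomputable def Psi (lam : T →* ℂˣ) : S → ℂ := indFun T (eta lam)

theorem ext_mem (θ : T → ℂ) {x : S} (hx : x ∈ T) : extendByZero T θ x = θ ⟨x, hx⟩ :=
  Function.Injective.extend_apply Subtype.val_injective θ 0 (⟨x, hx⟩ : T)

theorem ext_not_mem (θ : T → ℂ) {x : S} (hx : x ∉ T) : extendByZero T θ x = 0 := by
  rw [extendByZero, Function.extend_apply' _ _ _ (by rintro ⟨t, ht⟩; exact hx (ht ▸ t.2))]
  rfl

theorem Psi_apply (lam : T →* ℂˣ) (g : S) :
    Psi lam g = (Nat.card T : ℂ)⁻¹ * ∑ x : S, extendByZero T (eta lam) (x⁻¹ * g * x) := rfl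

theorem gc_eta [Fintype T] (lam : T →* ℂˣ) : GC (eta lam) := by
  have h1 := (GC.of_irr (Characters.Linear.isIrrCharacter_hom lam)).sub
    (GC.of_irr (Characters.Linear.isIrrCharacter_hom (1 : T →* ℂˣ)))
  have h2 : eta lam = (fun t => (lam t : ℂ)) - fun t => (((1 : T →* ℂˣ) t : ℂˣ) : ℂ) := by
    funext t
    simp [eta]
  rw [h2]
  exact h1

theorem gc_Psi (lam : T →* ℂˣ) : GC (Psi lam) := by
  haveI : Fintype T := Fintype.ofFinite _
  exact (gc_eta lam).indFun T

theorem lam_conj_mem {x : S} (hx : x ∈ T) (t : T) (h : x⁻¹ * t * x ∈ T) :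
    lam ⟨x⁻¹ * t * x, h⟩ = lam t := by
  have h1 : (⟨x⁻¹ * t * x, h⟩ : T) = (⟨x, hx⟩ : T)⁻¹ * t * ⟨x, hx⟩ := rfl
  rw [h1, map_mul, map_mul, map_inv, mul_comm, mul_inv_cancel_left]

namespace TI

variable (h : TI T lam w)

include h in
theorem w_not_mem : w ∉ T := by
  intro hw
  obtain ⟨t, ht⟩ := h.two
  obtain ⟨t', h1, h2⟩ := h.inv t
  apply ht
  have h3 : t' = ⟨w, hw⟩ * t * ⟨w, hw⟩⁻¹ := Subtype.ext h1
  rw [h3, map_mul, map_mul, map_inv, mul_comm, inv_mul_cancel_left] at h2
  rw [sq]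
  nth_rewrite 1 [h2]
  exact inv_mul_cancel _

include h in
/-- the values of `Ψ` outside the kernel -/
theorem Psi_of_ne (t : T) (ht : lam t ≠ 1) : Psi lam (t : S) = (lam t : ℂ) + ((lam⁻¹) t : ℂ) - 2 := by
  classical
  haveI : Fintype T := Fintype.ofFinite _
  have h1 : ∀ x : S, extendByZero T (eta lam) (x⁻¹ * t * x) =
      (if x ∈ T then ((lam t : ℂ) - 1) else 0) + (if x * w ∈ T then (((lam⁻¹) t : ℂ) - 1) else 0) := by
    intro x
    by_cases hx : x ∈ T
    · have hxw : x * w ∉ T := by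
        intro h2
        apply h.w_not_mem
        have h3 := T.mul_mem (T.inv_mem hx) h2
        rwa [inv_mul_cancel_left] at h3
      have h2 : x⁻¹ * t * x ∈ T := T.mul_mem (T.mul_mem (T.inv_mem hx) t.2) hx
      rw [if_pos hx, if_neg hxw, add_zero, ext_mem _ h2]
      show (lam _ : ℂ) - 1 = _
      rw [lam_conj_mem hx]
    · rw [if_neg hx, zero_add]
      by_cases hxw : x * w ∈ T
      · rw [if_pos hxw]
        have h2 : (x * w)⁻¹ * t * (x * w) ∈ T := T.mul_mem (T.mul_mem (T.inv_mem hxw) t.2) hxw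
        obtain ⟨t', h3, h4⟩ := h.inv ⟨_, h2⟩
        have h5 : x⁻¹ * t * x = t' := by
          rw [h3]
          show x⁻¹ * t * x = w * ((x * w)⁻¹ * t * (x * w)) * w⁻¹
          group
        rw [lam_conj_mem hxw] at h4
        rw [h5, ext_mem _ t'.2]
        show (lam t' : ℂ) - 1 = _
        rw [h4, MonoidHom.inv_apply]
      · rw [if_neg hxw]
        by_cases h2 : x⁻¹ * t * x ∈ T
        · rw [ext_mem _ h2]
          by_cases h3 : lam ⟨x⁻¹ * t * x, h2⟩ = 1
          · show (lam _ : ℂ) - 1 = 0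
            rw [h3]
            simp
          · exfalso
            rcases h.ti x⁻¹ t ⟨x⁻¹ * t * x, h2⟩ (by simp) ht h3 with h4 | h4
            · exact hx (T.inv_mem_iff.1 h4)
            · apply hxw
              have h5 := T.inv_mem h4
              rwa [mul_inv_rev, inv_inv, inv_inv] at h5
        · exact ext_not_mem _ h2
  rw [Psi_apply, Finset.sum_congr rfl fun x _ => h1 x, Finset.sum_add_distrib]
  have h2 : ∀ c : ℂ, ∑ x : S, (if x ∈ T then c else 0) = (Nat.card T : ℂ) * c := by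
    intro c
    rw [← Finset.sum_filter, Finset.sum_const, nsmul_eq_mul, Nat.card_eq_fintype_card,
      Fintype.card_subtype]
  have h3 : ∀ c : ℂ, ∑ x : S, (if x * w ∈ T then c else 0) = (Nat.card T : ℂ) * c := by
    intro c
    rw [← h2 c]
    exact Fintype.sum_equiv (Equiv.mulRight w) _ _ fun x => rfl
  rw [h2, h3]
  have h4 : (Nat.card T : ℂ) ≠ 0 := card_ne_zero_complex
  field_simp
  ring

include h in
theorem lam_ne_one : lam ≠ 1 := by
  intro h1
  obtain ⟨t, ht⟩ := h.two
  rw [h1] at ht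
  exact ht (by simp)

include h in
theorem lam_ne_inv : lam ≠ lam⁻¹ := by
  intro h1
  obtain ⟨t, ht⟩ := h.two
  apply ht
  have h2 := DFunLike.congr_fun h1 t
  rw [MonoidHom.inv_apply] at h2
  rw [sq]
  nth_rewrite 1 [h2]
  exact inv_mul_cancel _

theorem eta_one : eta lam (1 : T) = 0 := by
  show (lam 1 : ℂ) - 1 = 0
  simp

include h in
theorem norm : classInner (Psi lam) (Psi lam) = 3 := by
  classical
  haveI : Fintype T := Fintype.ofFinite _
  have h1 : classInner (Psi lam) (Psi lam) = classInner (eta lam) (fun t : T => Psi lam t) :=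
    Cfsg.Agent.OddOrderCharacters.Clifford.classInner_indFun T (eta lam) (Psi lam) (gc_Psi lam).cf
  have h2 : classInner (eta lam) (fun t : T => Psi lam t) =
      classInner (eta lam) (fun t : T => (lam t : ℂ) + ((lam⁻¹) t : ℂ) - 2) := by
    rw [Core.classInner_def, Core.classInner_def]
    congr 1
    refine Finset.sum_congr rfl fun t _ => ?_
    by_cases ht : lam t = 1
    · have h3 : eta lam t = 0 := by
        show (lam t : ℂ) - 1 = 0
        rw [ht]
        simp
      rw [h3, zero_mul, zero_mul]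
    · rw [h.Psi_of_ne t ht]
  have h3 : eta lam = (fun t => (lam t : ℂ)) - fun t => (((1 : T →* ℂˣ) t : ℂˣ) : ℂ) := by
    funext t
    simp [eta]
  have h4 : (fun t : T => (lam t : ℂ) + ((lam⁻¹) t : ℂ) - 2) =
      (fun t => (lam t : ℂ)) + (fun t => ((lam⁻¹) t : ℂ)) - (2 : ℂ) • fun t => (((1 : T →* ℂˣ) t : ℂˣ) : ℂ) := by
    funext t
    simp
  have hne1 := h.lam_ne_one
  have hne2 := h.lam_ne_inv
  have hne3 : lam⁻¹ ≠ 1 := by
    intro h5
    apply hne1
    ext t
    have h6 := DFunLike.congr_fun h5 t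
    rw [MonoidHom.inv_apply, MonoidHom.one_apply, inv_eq_one] at h6
    rw [h6, MonoidHom.one_apply]
  rw [h1, h2, h3, h4]
  simp only [classInner_sub_left, classInner_sub_right, classInner_add_right, classInner_smul_right,
    classInner_hom, if_neg hne1, if_neg hne2, if_neg hne1.symm, if_neg hne3.symm, if_true]
  have h5 : (starRingEnd ℂ) 2 = 2 := Complex.conj_ofNat 2
  rw [h5]
  norm_num

include h in
theorem inner_one : classInner (Psi lam) (fun _ => (1 : ℂ)) = -1 := by
  classical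
  haveI : Fintype T := Fintype.ofFinite _
  have h1 : classInner (Psi lam) (fun _ => (1 : ℂ)) = classInner (eta lam) (fun _ : T => (1 : ℂ)) :=
    Cfsg.Agent.OddOrderCharacters.Clifford.classInner_indFun T (eta lam) (fun _ => 1)
      (fun _ _ => rfl)
  have h3 : eta lam = (fun t => (lam t : ℂ)) - fun t => (((1 : T →* ℂˣ) t : ℂˣ) : ℂ) := by
    funext t
    simp [eta]
  have h4 : (fun _ : T => (1 : ℂ)) = fun t => (((1 : T →* ℂˣ) t : ℂˣ) : ℂ) := by
    funext t
    simp
  have hne1 := h.lam_ne_one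
  rw [h1, h3, h4, classInner_sub_left, classInner_hom, classInner_hom, if_neg hne1, if_pos rfl]
  norm_num

theorem Psi_one : Psi lam (1 : S) = 0 := by
  rw [Psi_apply, Finset.sum_eq_zero, mul_zero]
  intro x _
  have h1 : x⁻¹ * 1 * x = 1 := by group
  rw [h1, ext_mem _ T.one_mem]
  exact eta_one

include h in
theorem Psi_odd (g : S) (hg : Odd (orderOf g)) : Psi lam g = 0 := by
  rw [Psi_apply, Finset.sum_eq_zero, mul_zero]
  intro x _
  by_cases hx : x⁻¹ * g * x ∈ T
  · rw [ext_mem _ hx]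
    have h1 : orderOf (⟨x⁻¹ * g * x, hx⟩ : T) = orderOf g := by
      rw [Subgroup.orderOf_mk]
      have h2 := orderOf_injective (MulAut.conj x⁻¹).toMonoidHom (MulAut.conj x⁻¹).injective g
      simpa using h2
    have h2 : lam ⟨x⁻¹ * g * x, hx⟩ ^ orderOf g = 1 := by
      rw [← map_pow, ← h1, pow_orderOf_eq_one, map_one]
    have h3 := h.four ⟨x⁻¹ * g * x, hx⟩
    have h4 : Nat.Coprime 4 (orderOf g) := by
      have := Nat.Coprime.pow_left 2 (Nat.coprime_two_left.2 hg)
      exact this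
    have h5 : lam ⟨x⁻¹ * g * x, hx⟩ = 1 := orderOf_eq_one_iff.1 (Nat.eq_one_of_dvd_coprimes h4
      (orderOf_dvd_of_pow_eq_one h3) (orderOf_dvd_of_pow_eq_one h2))
    show (lam _ : ℂ) - 1 = 0
    rw [h5]
    simp
  · exact ext_not_mem _ hx

include h in
theorem Psi_pow {k : ℕ} (hk : IsK S k) (g : S) : Psi lam (g ^ k) = Psi lam g := by
  haveI : Fintype T := Fintype.ofFinite _
  refine indFun_pow T hk (fun t => ?_) g
  show (lam (t ^ k) : ℂ) - 1 = (lam t : ℂ) - 1
  rw [hom_pow_eq (hk.sub T) lam t ⟨2, h.four t⟩]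

include h in
theorem Psi_aut (a : S ≃* S) (g : S) : Psi lam (a g) = Psi lam g := by
  classical
  obtain ⟨s, hs⟩ := h.aut a
  choose c hc1 hc2 using hs
  have hcinj : Function.Injective c := by
    intro t t' htt
    have h1 := hc1 t
    rw [htt, hc1 t'] at h1
    have h2 : a (t' : S) = a t := by
      have h3 := mul_right_cancel h1
      exact mul_left_cancel h3
    exact Subtype.ext (a.injective h2).symm
  have hcsurj := Finite.surjective_of_injective hcinj
  -- the twisted function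
  have key : ∀ z : S, extendByZero T (eta lam) (s * a z * s⁻¹) = extendByZero T (eta lam) z := by
    intro z
    by_cases hz : z ∈ T
    · have h1 : s * a z * s⁻¹ = c ⟨z, hz⟩ := (hc1 ⟨z, hz⟩).symm
      rw [h1, ext_mem _ (c ⟨z, hz⟩).2, ext_mem _ hz]
      show (lam _ : ℂ) - 1 = (lam _ : ℂ) - 1
      rw [← hc2 ⟨z, hz⟩]
    · rw [ext_not_mem _ hz, ext_not_mem]
      intro h1
      obtain ⟨t, ht⟩ := hcsurj ⟨_, h1⟩
      have h2 := hc1 t
      rw [ht] at h2
      have h3 : a z = a t := by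
        have h4 : s * a z * s⁻¹ = s * a t * s⁻¹ := h2
        exact mul_left_cancel (mul_right_cancel h4)
      exact hz (a.injective h3 ▸ t.2)
  have h1 : Psi lam (s * a g * s⁻¹) = Psi lam (a g) := (gc_Psi lam).cf (a g) s
  rw [← h1, Psi_apply, Psi_apply]
  congr 1
  let β : S ≃* S := a.trans (MulAut.conj s)
  refine (Fintype.sum_equiv β.toEquiv _ _ fun x => ?_).symm
  show extendByZero T (eta lam) (x⁻¹ * g * x) =
    extendByZero T (eta lam) ((β x)⁻¹ * (s * a g * s⁻¹) * β x)
  have h2 : (β x)⁻¹ * (s * a g * s⁻¹) * β x = s * a (x⁻¹ * g * x) * s⁻¹ := by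
    show (s * a x * s⁻¹)⁻¹ * (s * a g * s⁻¹) * (s * a x * s⁻¹) = _
    rw [map_mul, map_mul, map_inv]
    group
  rw [h2, key]

/-! ### Extensions -/

section ext

variable {H : Type u} [Group H] [Fintype H] (N : Subgroup H) [hN : N.Normal] (e : S ≃* N)

/-- the embedding of `T` -/
def emb (T : Subgroup S) : T → H := fun t => (e (t : S) : H)

theorem emb_injective (T : Subgroup S) : Function.Injective (emb N e T) := by
  intro t t' htt
  exact Subtype.ext (e.injective (Subtype.ext htt))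

/-- the extension by zero -/
noncomputable def FF (lam : T →* ℂˣ) : H → ℂ := Function.extend (emb N e T) (fun t => (lam t : ℂ)) 0

theorem FF_emb (t : T) : FF N e lam (emb N e T t) = lam t :=
  (emb_injective N e T).extend_apply _ _ t

theorem FF_zero {z : H} (hz : ∀ t : T, emb N e T t ≠ z) : FF N e lam z = 0 := by
  rw [FF, Function.extend_apply' _ _ _ (by rintro ⟨t, ht⟩; exact hz t ht)]
  rfl

/-- the stabilizer of `(T, lam)` -/
noncomputable def stab (lam : T →* ℂˣ) : Subgroup H where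
  carrier := {x | ∀ z, FF N e lam (x * z * x⁻¹) = FF N e lam z}
  one_mem' := by
    intro z
    simp
  mul_mem' := by
    intro x y hx hy z
    have h1 : x * y * z * (x * y)⁻¹ = x * (y * z * y⁻¹) * x⁻¹ := by group
    rw [h1, hx, hy]
  inv_mem' := by
    intro x hx z
    have h1 := hx (x⁻¹ * z * x⁻¹⁻¹)
    have h2 : x * (x⁻¹ * z * x⁻¹⁻¹) * x⁻¹ = z := by group
    rw [h2] at h1
    exact h1.symm

theorem mem_stab_iff (lam : T →* ℂˣ) (x : H) :
    x ∈ stab N e lam ↔ ∀ z, FF N e lam (x * z * x⁻¹) = FF N e lam z := Iff.rfl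

/-- the criterion -/
theorem mem_stab (lam : T →* ℂˣ) (x : H)
    (hx : ∀ t : T, ∃ t' : T, emb N e T t' = x * emb N e T t * x⁻¹ ∧ lam t' = lam t) :
    x ∈ stab N e lam := by
  choose c hc1 hc2 using hx
  have hcinj : Function.Injective c := by
    intro t t' htt
    have h1 := hc1 t
    rw [htt, hc1 t'] at h1
    exact (emb_injective N e T (mul_left_cancel (mul_right_cancel h1))).symm
  have hcsurj := Finite.surjective_of_injective hcinj
  intro z
  by_cases hz : ∃ t : T, emb N e T t = z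
  · obtain ⟨t, rfl⟩ := hz
    rw [← hc1, FF_emb, FF_emb, hc2]
  · push Not at hz
    rw [FF_zero N e hz, FF_zero]
    intro t ht
    obtain ⟨t₁, rfl⟩ := hcsurj t
    rw [hc1] at ht
    exact hz t₁ (mul_left_cancel (mul_right_cancel ht))

theorem of_mem_stab {x : H} (hx : x ∈ stab N e lam) (t : T) :
    ∃ t' : T, emb N e T t' = x * emb N e T t * x⁻¹ ∧ lam t' = lam t := by
  have h1 := hx (emb N e T t)
  by_cases hz : ∃ t' : T, emb N e T t' = x * emb N e T t * x⁻¹
  · obtain ⟨t', ht'⟩ := hz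
    refine ⟨t', ht', ?_⟩
    rw [← ht', FF_emb, FF_emb] at h1
    exact Units.ext h1
  · push Not at hz
    rw [FF_zero N e hz, FF_emb] at h1
    exact absurd h1.symm (Units.ne_zero _)

theorem emb_mem_stab (lam : T →* ℂˣ) (t : T) : emb N e T t ∈ stab N e lam := by
  refine mem_stab N e lam _ fun t' => ⟨t * t' * t⁻¹, ?_, ?_⟩
  · show (e ((t * t' * t⁻¹ : T) : S) : H) = (e (t : S) : H) * (e (t' : S) : H) * (e (t : S) : H)⁻¹
    rw [Subgroup.coe_mul, Subgroup.coe_mul, Subgroup.coe_inv, map_mul, map_mul, map_inv]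
    rfl
  · rw [map_mul, map_mul, map_inv, mul_comm, inv_mul_cancel_left]

include h in
/-- `N ∩ P = T` -/
theorem mem_of_mem_stab {n : N} (hn : (n : H) ∈ stab N e lam) : e.symm n ∈ T := by
  obtain ⟨t, ht⟩ := h.two
  have ht1 : lam t ≠ 1 := by
    intro h1
    rw [h1] at ht
    exact ht (by simp)
  obtain ⟨t', h1, h2⟩ := of_mem_stab N e hn t
  have h3 : (t' : S) = e.symm n * t * (e.symm n)⁻¹ := by
    apply e.injective
    rw [map_mul, map_mul, map_inv, MulEquiv.apply_symm_apply]
    exact Subtype.ext h1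
  rcases h.ti (e.symm n) t t' h3 ht1 (by rw [h2]; exact ht1) with h4 | h4
  · exact h4
  · exfalso
    -- `e.symm n = w u`
    set u : T := ⟨w⁻¹ * e.symm n, h4⟩ with hu
    obtain ⟨t₂, h5, h6⟩ := h.inv (u * t * u⁻¹)
    have h7 : t₂ = t' := by
      apply Subtype.ext
      rw [h5, h3, Subgroup.coe_mul, Subgroup.coe_mul, Subgroup.coe_inv]
      show w * (w⁻¹ * e.symm n * t * (w⁻¹ * e.symm n)⁻¹) * w⁻¹ = _
      group
    have h8 : lam (u * t * u⁻¹) = lam t := by
      rw [map_mul, map_mul, map_inv, mul_comm, inv_mul_cancel_left]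
    rw [h7, h2, h8] at h6
    apply ht
    rw [sq]
    nth_rewrite 1 [h6]
    exact inv_mul_cancel _

include h in
/-- `N P = H` -/
theorem sup_stab : N ⊔ stab N e lam = ⊤ := by
  rw [eq_top_iff]
  intro x _
  let a : S ≃* S := (e.trans (MulAut.conjNormal x : MulAut N)).trans e.symm
  have ha : ∀ y : S, (e (a y) : H) = x * e y * x⁻¹ := by
    intro y
    show ((e (e.symm ((MulAut.conjNormal x : MulAut N) (e y))) : N) : H) = _
    rw [MulEquiv.apply_symm_apply, MulAut.conjNormal_apply]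
  obtain ⟨s, hs⟩ := h.aut a
  have h1 : (e s : H) * x ∈ stab N e lam := by
    refine mem_stab N e lam _ fun t => ?_
    obtain ⟨t', h1, h2⟩ := hs t
    refine ⟨t', ?_, h2⟩
    show (e (t' : S) : H) = (e s : H) * x * (e (t : S) : H) * ((e s : H) * x)⁻¹
    rw [h1, map_mul, map_mul, map_inv, Subgroup.coe_mul, Subgroup.coe_mul, Subgroup.coe_inv, ha]
    group
  have h2 : x = (e s : H)⁻¹ * ((e s : H) * x) := by group
  rw [h2]
  exact Subgroup.mul_mem _ ((le_sup_left : N ≤ _) (N.inv_mem (e s).2))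
    ((le_sup_right : stab N e lam ≤ _) h1)

include h in
/-- The odd extension property. -/
theorem oddExt [Fintype N] (hcyc : IsCyclic (H ⧸ N)) (hidx : ∃ j : ℕ, N.index = 2 ^ j) {k : ℕ}
    (hk : IsK H k) {φ : S → ℂ} (hφ : IsIrrCharacter S φ) (hodd : Odd (mu (Psi lam) φ)) :
    OddExt H N k (fun n => φ (e.symm n)) := by
  classical
  set P : Subgroup H := stab N e lam with hP
  haveI : Fintype P := Fintype.ofFinite _
  haveI : Fintype T := Fintype.ofFinite _
  haveI iD : Fintype (N.subgroupOf P) := Fintype.ofFinite _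
  -- the map to `T`
  have hmem : ∀ d : N.subgroupOf P, e.symm ⟨((d : P) : H), Subgroup.mem_subgroupOf.1 d.2⟩ ∈ T :=
    fun d => h.mem_of_mem_stab N e (n := ⟨((d : P) : H), Subgroup.mem_subgroupOf.1 d.2⟩) (d : P).2
  let δ : N.subgroupOf P →* T :=
    { toFun := fun d => ⟨_, hmem d⟩
      map_one' := Subtype.ext (map_one e.symm)
      map_mul' := fun d d' => Subtype.ext (map_mul e.symm ⟨((d : P) : H), Subgroup.mem_subgroupOf.1 d.2⟩
        ⟨((d' : P) : H), Subgroup.mem_subgroupOf.1 d'.2⟩) }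
  have hδ : ∀ d : N.subgroupOf P, emb N e T (δ d) = ((d : P) : H) := by
    intro d
    show ((e (e.symm ⟨((d : P) : H), Subgroup.mem_subgroupOf.1 d.2⟩) : N) : H) = _
    rw [MulEquiv.apply_symm_apply]
  have hbij : Function.Bijective δ := by
    refine ⟨fun d d' hdd => ?_, fun t => ?_⟩
    · have h1 := congrArg (emb N e T) hdd
      rw [hδ, hδ] at h1
      exact Subtype.ext (Subtype.ext h1)
    · refine ⟨⟨⟨emb N e T t, emb_mem_stab N e lam t⟩, Subgroup.mem_subgroupOf.2 (e (t : S)).2⟩, ?_⟩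
      apply emb_injective N e T
      rw [hδ]
  -- the linear character of `D`
  have hinv : ∀ (g : P) (n : N.subgroupOf P),
      (lam (δ ⟨g * n * g⁻¹, (inferInstance : (N.subgroupOf P).Normal).conj_mem (n : P) n.2 g⟩) : ℂ) =
        lam (δ n) := by
    intro g n
    have h1 := g.2 (((n : P) : H))
    have h2 := hδ ⟨g * n * g⁻¹, (inferInstance : (N.subgroupOf P).Normal).conj_mem (n : P) n.2 g⟩
    have h3 : FF N e lam ((g : H) * ((n : P) : H) * (g : H)⁻¹) =
        lam (δ ⟨g * n * g⁻¹, (inferInstance : (N.subgroupOf P).Normal).conj_mem (n : P) n.2 g⟩) := by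
      rw [← FF_emb N e, h2]
      rfl
    rw [← h3, h1, ← hδ n, FF_emb]
  -- the quotient is cyclic
  have hcycP : IsCyclic (P ⧸ N.subgroupOf P) := by
    let f : P ⧸ N.subgroupOf P →* H ⧸ N :=
      QuotientGroup.map (N.subgroupOf P) N P.subtype (fun x hx => hx)
    refine isCyclic_of_injective f ?_
    rw [injective_iff_map_eq_one]
    intro x
    obtain ⟨y, rfl⟩ := QuotientGroup.mk_surjective x
    intro hx
    rw [QuotientGroup.eq_one_iff]
    have h1 : (QuotientGroup.mk ((y : H)) : H ⧸ N) = 1 := hx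
    exact Subgroup.mem_subgroupOf.2 ((QuotientGroup.eq_one_iff _).1 h1)
  obtain ⟨χ₀, hχ₀, hχ₀D⟩ := Cfsg.Agent.S0886.result (N.subgroupOf P) hcycP
    (fun n => (lam (δ n) : ℂ)) (Characters.Linear.isIrrCharacter_hom (lam.comp δ)) hinv
  obtain ⟨f, rfl⟩ := Characters.Linear.exists_hom_of_isIrrCharacter hχ₀ (by
    have h1 := hχ₀D 1
    rw [Subgroup.coe_one] at h1
    rw [h1]
    simp)
  have hf : ∀ d : N.subgroupOf P, f d = lam (δ d) := fun d => Units.ext (hχ₀D d)
  have hfk : ∀ t : P, f (t ^ k) = f t := by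
    intro t
    refine hom_pow_eq (hk.sub P) f t ?_
    obtain ⟨j, hj⟩ := hidx
    refine ⟨j + 2, ?_⟩
    have h1 : t ^ 2 ^ j ∈ N.subgroupOf P := by
      rw [Subgroup.mem_subgroupOf, Subgroup.coe_pow, ← hj]
      exact Subgroup.pow_index_mem N (t : H)
    have h2 := hf ⟨_, h1⟩
    have h3 := h.four (δ ⟨_, h1⟩)
    rw [← h2, map_pow, ← pow_mul] at h3
    rw [pow_add]
    exact h3
  refine OddExt.of_sup hk N P (h.sup_stab N e) (π₀ := fun t => (f t : ℂ) - 1) ?_ ?_
    (isIrr_comp e.symm.toMonoidHom e.symm.surjective hφ) ?_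
  · have h1 := (GC.of_irr (Characters.Linear.isIrrCharacter_hom f)).sub
      (GC.of_irr (Characters.Linear.isIrrCharacter_hom (1 : P →* ℂˣ)))
    have h2 : (fun t : P => (f t : ℂ) - 1) = (fun t => (f t : ℂ)) - fun t => (((1 : P →* ℂˣ) t : ℂˣ) : ℂ) := by
      funext t
      simp
    rw [h2]
    exact h1
  · intro t
    show (f (t ^ k) : ℂ) - 1 = (f t : ℂ) - 1
    rw [hfk]
  · have h1 : classInner (fun d : N.subgroupOf P => (f (d : P) : ℂ) - 1)
        (fun d : N.subgroupOf P => φ (e.symm ⟨((d : P) : H), Subgroup.mem_subgroupOf.1 d.2⟩)) =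
        classInner (Psi lam) φ := by
      rw [show classInner (Psi lam) φ = classInner (eta lam) (fun t : T => φ t) from
        Cfsg.Agent.OddOrderCharacters.Clifford.classInner_indFun T (eta lam) φ (isIrr_isClassFunction hφ),
        ← classInner_equiv (Equiv.ofBijective δ hbij) (eta lam) (fun t : T => φ t)]
      congr 1
      funext d
      show (f (d : P) : ℂ) - 1 = (lam (δ d) : ℂ) - 1
      rw [hf]
    have h2 : mu (fun d : N.subgroupOf P => (f (d : P) : ℂ) - 1)
        (fun d : N.subgroupOf P => φ (e.symm ⟨((d : P) : H), Subgroup.mem_subgroupOf.1 d.2⟩)) =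
        mu (Psi lam) φ := by
      rw [mu, mu, h1]
    exact h2 ▸ hodd

end ext

include h in
/-- **The character.** -/
theorem exists_rphi : ∃ φ : S → ℂ, RPhi S φ := by
  obtain ⟨φ, h1, h2, h3, h4⟩ := exists_phi (gc_Psi lam) h.norm h.inner_one Psi_one h.Psi_odd
  refine ⟨φ, φ.2, h1, ?_, ?_, h2, ?_⟩
  · intro k hk
    refine h4 (fun g => g ^ k) (fun g => ⟨g ^ k, hk.pow_pow g⟩) (fun χ hχ => ?_)
      (fun g => h.Psi_pow hk g)
    exact Cfsg.Agent.OddOrderCharacters.GaloisTwist.isIrrCharacter_pow hk.coprime hχ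
  · intro a
    funext g
    exact h4 a a.surjective (fun χ hχ => isIrr_comp a.toMonoidHom a.surjective hχ)
      (fun g => h.Psi_aut a g) g
  · intro H _ _ N _ _ e _ hcyc hidx k hk
    exact h.oddExt N e hcyc hidx hk φ.2 h3

include h in
theorem evenJ : EvenJ S := by
  obtain ⟨φ, hφ⟩ := h.exists_rphi
  exact hφ.evenJ

end TI

end Cfsg.Agent.H497.EB
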