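import Cfsg.Agent.H497.EB.Low

/-!
# A generalized character of norm three, degree zero, vanishing on the elements of odd order

`exists_phi`: if `Ψ` has norm 3, `⟨Ψ, 1⟩ = -1`, `Ψ 1 = 0` and `Ψ` vanishes on the elements of odd order, then
`Ψ = -1 + χ - χ'`, `χ` and `χ'` lie in the principal 2-block, and one of them has even degree; it is fixed by all maps
fixing `Ψ`.
-/

set_option autoImplicit false

namespace Cfsg.Agent.H497.EB

open Cfsg Cfsg.Agent.H610.EB Cfsg.Agent.H694 Cfsg.Agent.Characters Cfsg.Agent.Characters.Core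
open scoped ComplexConjugate
open Cfsg.Agent.Blocks

universe u

section

variable {S : Type u} [Group S] [Fintype S]

theorem sq_cases {a : ℤ} (h : a ≠ 0) (h2 : a ^ 2 ≤ 2) : a = 1 ∨ a = -1 := by
  have h1 : a ≤ 1 := by nlinarith
  have h3 : -1 ≤ a := by nlinarith
  omega

/-- norm three -/
theorem decomp {Ψ : S → ℂ} (hg : GC Ψ) (hn : classInner Ψ Ψ = 3)
    (h1 : classInner Ψ (fun _ => (1 : ℂ)) = -1) (h0 : Ψ 1 = 0) :
    ∃ χ χ' : IrrCharacter S, χ ≠ χ' ∧ ∀ g, Ψ g = -1 + (χ : S → ℂ) g - (χ' : S → ℂ) g := by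
  classical
  haveI := @Fintype.ofFinite (IrrCharacter S) finite_irr
  let one : IrrCharacter S := ⟨fun _ => 1, Basic.isIrrCharacter_one⟩
  set a : IrrCharacter S → ℤ := fun φ => mu Ψ (φ : S → ℂ) with ha
  have hspec : ∀ φ : IrrCharacter S, classInner Ψ (φ : S → ℂ) = (a φ : ℂ) := fun φ => hg.mu_spec φ.2
  have ha1 : a one = -1 := by
    have h2 := hspec one
    have h3 : classInner Ψ (one : S → ℂ) = -1 := h1
    rw [h3] at h2
    exact_mod_cast h2.symm
  have hsum : ∑ φ : IrrCharacter S, a φ ^ 2 = 3 := by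
    have h2 := classInner_eq_sum hg.cf hg.cf
    rw [hn] at h2
    have h3 : ∀ φ : IrrCharacter S, classInner Ψ (φ : S → ℂ) * conj (classInner Ψ (φ : S → ℂ)) = ((a φ ^ 2 : ℤ) : ℂ) := by
      intro φ
      rw [hspec, map_intCast]
      push_cast
      ring
    rw [Finset.sum_congr rfl fun φ _ => h3 φ] at h2
    exact_mod_cast h2.symm
  rw [← Finset.add_sum_erase Finset.univ _ (Finset.mem_univ one), ha1] at hsum
  have hsum1 : ∑ φ ∈ Finset.univ.erase one, a φ ^ 2 = 2 := by linarith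
  obtain ⟨φ₁, hφ₁, hne₁⟩ : ∃ φ ∈ Finset.univ.erase one, a φ ≠ 0 := by
    by_contra hcon
    push Not at hcon
    rw [Finset.sum_eq_zero fun φ hφ => by rw [hcon φ hφ]; ring] at hsum1
    exact absurd hsum1 (by norm_num)
  have hle₁ : a φ₁ ^ 2 ≤ 2 := by
    rw [← hsum1]
    exact Finset.single_le_sum (f := fun φ => a φ ^ 2) (fun φ _ => sq_nonneg _) hφ₁
  have hc₁ := sq_cases hne₁ hle₁
  have hs₁ : a φ₁ ^ 2 = 1 := by rcases hc₁ with h | h <;> rw [h] <;> norm_num
  rw [← Finset.add_sum_erase _ _ hφ₁, hs₁] at hsum1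
  have hsum2 : ∑ φ ∈ (Finset.univ.erase one).erase φ₁, a φ ^ 2 = 1 := by linarith
  obtain ⟨φ₂, hφ₂, hne₂⟩ : ∃ φ ∈ (Finset.univ.erase one).erase φ₁, a φ ≠ 0 := by
    by_contra hcon
    push Not at hcon
    rw [Finset.sum_eq_zero fun φ hφ => by rw [hcon φ hφ]; ring] at hsum2
    exact absurd hsum2 (by norm_num)
  have hle₂ : a φ₂ ^ 2 ≤ 1 := by
    rw [← hsum2]
    exact Finset.single_le_sum (f := fun φ => a φ ^ 2) (fun φ _ => sq_nonneg _) hφ₂
  have hc₂ := sq_cases hne₂ (by linarith)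
  have hs₂ : a φ₂ ^ 2 = 1 := by rcases hc₂ with h | h <;> rw [h] <;> norm_num
  rw [← Finset.add_sum_erase _ _ hφ₂, hs₂] at hsum2
  have hsum3 : ∑ φ ∈ ((Finset.univ.erase one).erase φ₁).erase φ₂, a φ ^ 2 = 0 := by linarith
  have hzero : ∀ φ ∈ ((Finset.univ.erase one).erase φ₁).erase φ₂, a φ = 0 := by
    intro φ hφ
    have h2 := (Finset.sum_eq_zero_iff_of_nonneg fun φ _ => sq_nonneg (a φ)).1 hsum3 φ hφ
    exact pow_eq_zero_iff (two_ne_zero) |>.1 h2
  -- the expansion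
  have hexp : ∀ g, Ψ g = -1 + (a φ₁ : ℂ) * (φ₁ : S → ℂ) g + (a φ₂ : ℂ) * (φ₂ : S → ℂ) g := by
    intro g
    have h2 := congrFun (classFunction_eq_sum hg.cf) g
    rw [Finset.sum_apply] at h2
    have h3 : ∀ φ : IrrCharacter S, (classInner Ψ (φ : S → ℂ) • (φ : S → ℂ)) g = (a φ : ℂ) * (φ : S → ℂ) g := by
      intro φ
      rw [Pi.smul_apply, hspec, smul_eq_mul]
    rw [Finset.sum_congr rfl fun φ _ => h3 φ, ← Finset.add_sum_erase Finset.univ _ (Finset.mem_univ one),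
      ← Finset.add_sum_erase _ _ hφ₁, ← Finset.add_sum_erase _ _ hφ₂,
      Finset.sum_eq_zero fun φ hφ => by rw [hzero φ hφ]; push_cast; ring, ha1] at h2
    rw [h2]
    have h4 : (one : S → ℂ) g = 1 := rfl
    rw [h4]
    push_cast
    ring
  have hφ₁₂ : φ₂ ≠ φ₁ := Finset.ne_of_mem_erase hφ₂
  have hd := hexp 1
  rw [h0, Basic.irr_one_eq_charDegree φ₁.2, Basic.irr_one_eq_charDegree φ₂.2] at hd
  have hp₁ := Basic.charDegree_pos φ₁.2
  have hp₂ := Basic.charDegree_pos φ₂.2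
  have hd' : (0 : ℤ) = -1 + a φ₁ * charDegree (φ₁ : S → ℂ) + a φ₂ * charDegree (φ₂ : S → ℂ) := by
    exact_mod_cast hd
  rcases hc₁ with h2 | h2 <;> rcases hc₂ with h3 | h3
  · rw [h2, h3] at hd'
    omega
  · refine ⟨φ₁, φ₂, hφ₁₂.symm, fun g => ?_⟩
    rw [hexp, h2, h3]
    push_cast
    ring
  · refine ⟨φ₂, φ₁, hφ₁₂, fun g => ?_⟩
    rw [hexp, h2, h3]
    push_cast
    ring
  · rw [h2, h3] at hd'
    omega

/-- uniqueness of a difference of irreducible characters -/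
theorem diff_unique {χ χ' ψ ψ' : IrrCharacter S} (hne : χ ≠ χ')
    (h : ∀ g, (χ : S → ℂ) g - (χ' : S → ℂ) g = (ψ : S → ℂ) g - (ψ' : S → ℂ) g) : ψ = χ ∧ ψ' = χ' := by
  classical
  have key : ∀ α β : IrrCharacter S, classInner (α : S → ℂ) (β : S → ℂ) = if α = β then 1 else 0 := by
    intro α β
    split_ifs with h1
    · rw [h1]
      exact classInner_irr_self β.2
    · exact classInner_irr_ne α.2 β.2 fun h2 => h1 (Subtype.ext h2)
  have h1 : (χ : S → ℂ) - (χ' : S → ℂ) = (ψ : S → ℂ) - (ψ' : S → ℂ) := funext h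
  have h2 := congrArg (fun f => classInner f (χ : S → ℂ)) h1
  have h2' : classInner ((χ : S → ℂ) - (χ' : S → ℂ)) (χ : S → ℂ) =
    classInner ((ψ : S → ℂ) - (ψ' : S → ℂ)) (χ : S → ℂ) := h2
  rw [classInner_sub_left, classInner_sub_left, key, key, key, key, if_pos rfl, if_neg hne.symm] at h2'
  have h3 : ψ = χ := by
    by_contra hc
    rw [if_neg hc] at h2'
    split_ifs at h2' <;> norm_num at h2'
  subst h3
  refine ⟨rfl, Subtype.ext (funext fun g => ?_)⟩
  have h4 := h g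
  linear_combination h4

/-- **Norm three and degree zero, vanishing on the elements of odd order.** -/
theorem exists_phi {Ψ : S → ℂ} (hg : GC Ψ) (hn : classInner Ψ Ψ = 3)
    (h1 : classInner Ψ (fun _ => (1 : ℂ)) = -1) (h0 : Ψ 1 = 0) (hreg : ∀ g : S, Odd (orderOf g) → Ψ g = 0) :
    ∃ φ : IrrCharacter S, Even (charDegree (φ : S → ℂ)) ∧
      (∀ M : Ideal AlgInt, IsPModular 2 M → φ ∈ principalBlock M S) ∧ Odd (mu Ψ (φ : S → ℂ)) ∧
      ∀ τ : S → S, Function.Surjective τ → (∀ χ : S → ℂ, IsIrrCharacter S χ → IsIrrCharacter S fun g => χ (τ g)) →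
        (∀ g, Ψ (τ g) = Ψ g) → ∀ g, (φ : S → ℂ) (τ g) = (φ : S → ℂ) g := by
  classical
  obtain ⟨χ, χ', hne, hΨ⟩ := decomp hg hn h1 h0
  -- the degrees
  have hd := hΨ 1
  rw [h0, Basic.irr_one_eq_charDegree χ.2, Basic.irr_one_eq_charDegree χ'.2] at hd
  have hd' : charDegree (χ : S → ℂ) = charDegree (χ' : S → ℂ) + 1 := by
    have h2 : (0 : ℤ) = -1 + charDegree (χ : S → ℂ) - charDegree (χ' : S → ℂ) := by exact_mod_cast hd
    omega
  -- the block
  have hodd : ∀ s : S, IsPRegular 2 s → Odd (orderOf s) := by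
    intro s hs
    rw [← Nat.not_even_iff_odd, even_iff_two_dvd]
    exact hs
  let one : IrrCharacter S := ⟨fun _ => 1, Basic.isIrrCharacter_one⟩
  have hr : ∀ s : S, IsPRegular 2 s → (χ : S → ℂ) s = (one : S → ℂ) s + (χ' : S → ℂ) s := by
    intro s hs
    have h2 := hΨ s
    rw [hreg s (hodd s hs)] at h2
    show (χ : S → ℂ) s = 1 + (χ' : S → ℂ) s
    linear_combination -h2
  have hmem : ∀ M : Ideal AlgInt, IsPModular 2 M → χ ∈ principalBlock M S ∧ χ' ∈ principalBlock M S := by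
    intro M hM
    haveI : M.IsPrime := Local.isPrime_of_isPModular hM
    have h2 : SameBlock M (χ : S → ℂ) (one : S → ℂ) := sameBlock_of_reg hM χ one (isIrr_isCharacter χ'.2) hr
    have h3 : SameBlock M (χ : S → ℂ) (χ' : S → ℂ) :=
      sameBlock_of_reg hM χ χ' (isIrr_isCharacter one.2) fun s hs => by rw [hr s hs, add_comm]
    have h4 : SameBlock M (one : S → ℂ) (χ : S → ℂ) := Basic.sameBlock_symm h2
    exact ⟨h4, Basic.sameBlock_trans h4 h3⟩
  -- the multiplicities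
  have hΨ' : Ψ = -(one : S → ℂ) + (χ : S → ℂ) - (χ' : S → ℂ) := by
    funext g
    rw [hΨ g]
    rfl
  have hone : ∀ φ : IrrCharacter S, classInner Ψ (φ : S → ℂ) = - classInner (one : S → ℂ) (φ : S → ℂ) +
      classInner (χ : S → ℂ) (φ : S → ℂ) - classInner (χ' : S → ℂ) (φ : S → ℂ) := by
    intro φ
    rw [hΨ', classInner_sub_left, classInner_add_left, classInner_neg_left]
  have key : ∀ α β : IrrCharacter S, classInner (α : S → ℂ) (β : S → ℂ) = if α = β then 1 else 0 := by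
    intro α β
    split_ifs with h1
    · rw [h1]
      exact classInner_irr_self β.2
    · exact classInner_irr_ne α.2 β.2 fun h2 => h1 (Subtype.ext h2)
  have hone1 := hone one
  have h1' : classInner Ψ (one : S → ℂ) = -1 := h1
  rw [h1', key, key, key, if_pos rfl] at hone1
  have hχ1 : χ ≠ one ∧ χ' ≠ one := by
    by_cases h2 : χ = one <;> by_cases h3 : χ' = one
    · exact absurd (h2.trans h3.symm) hne
    · rw [if_pos h2, if_neg h3] at hone1
      norm_num at hone1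
    · rw [if_neg h2, if_pos h3] at hone1
      norm_num at hone1
    · exact ⟨h2, h3⟩
  have hmu : mu Ψ (χ : S → ℂ) = 1 := mu_eq (by
    rw [hone, key, key, key, if_neg hχ1.1.symm, if_pos rfl, if_neg hne.symm]
    norm_num)
  have hmu' : mu Ψ (χ' : S → ℂ) = -1 := mu_eq (by
    rw [hone, key, key, key, if_neg hχ1.2.symm, if_neg hne, if_pos rfl]
    norm_num)
  -- invariance
  have hinv : ∀ τ : S → S, Function.Surjective τ →
      (∀ χ : S → ℂ, IsIrrCharacter S χ → IsIrrCharacter S fun g => χ (τ g)) → (∀ g, Ψ (τ g) = Ψ g) →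
      (∀ g, (χ : S → ℂ) (τ g) = (χ : S → ℂ) g) ∧ ∀ g, (χ' : S → ℂ) (τ g) = (χ' : S → ℂ) g := by
    intro τ _ hirr hτΨ
    let ψ : IrrCharacter S := ⟨fun g => (χ : S → ℂ) (τ g), hirr _ χ.2⟩
    let ψ' : IrrCharacter S := ⟨fun g => (χ' : S → ℂ) (τ g), hirr _ χ'.2⟩
    obtain ⟨h2, h3⟩ := diff_unique (ψ := ψ) (ψ' := ψ') hne (fun g => by
      have h4 := hτΨ g
      rw [hΨ, hΨ] at h4
      show (χ : S → ℂ) g - (χ' : S → ℂ) g = (χ : S → ℂ) (τ g) - (χ' : S → ℂ) (τ g)
      linear_combination -h4)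
    exact ⟨fun g => congrFun (congrArg Subtype.val h2) g, fun g => congrFun (congrArg Subtype.val h3) g⟩
  rcases Nat.even_or_odd (charDegree (χ : S → ℂ)) with he | ho
  · exact ⟨χ, he, fun M hM => (hmem M hM).1, by rw [hmu]; exact odd_one, fun τ h2 h3 h4 => (hinv τ h2 h3 h4).1⟩
  · refine ⟨χ', ?_, fun M hM => (hmem M hM).2, by rw [hmu']; decide, fun τ h2 h3 h4 => (hinv τ h2 h3 h4).2⟩
    rw [hd'] at ho
    rcases Nat.even_or_odd (charDegree (χ' : S → ℂ)) with he | ho'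
    · exact he
    · exact absurd (ho'.add_odd odd_one) (Nat.not_even_iff_odd.2 ho)

end

end Cfsg.Agent.H497.EB
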